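import Cfsg.Agent.Sporadic96.TwoRadicalModule

/-!
# Two classes of 3-transpositions acting on the same module coincide
-/

set_option autoImplicit false

namespace Cfsg.Agent.Sporadic96.TwoModule

open Cfsg.Agent

variable {X V : Type*} [Group X] [CommGroup V] {ρ : X →* MulAut V} {D E : Set X}

namespace Mod

theorem conj_eq_of_commute (MD : Mod ρ D) (ME : Mod ρ E) {d e : X} (hd : d ∈ D) (he : e ∈ E)
    (hc : Commute d (e * d * e)) : e * d * e = d := by
  have d2 := FischerSpace.mul_self MD.set hd
  have e2 := FischerSpace.mul_self ME.set he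
  by_contra hne
  set d' := e * d * e with hd'
  have hd'D : d' ∈ D := by
    have := MD.inv e d hd
    rwa [FischerSpace.inv_eq ME.set he] at this
  set e' := d * e * d with he'
  have he'E : e' ∈ E := by
    have := ME.inv d e he
    rwa [FischerSpace.inv_eq MD.set hd] at this
  have hee : Commute e' e := by
    rw [FischerSpace.commute_iff_sq ME.set he'E he]
    have : e' * e = d * d' := by rw [he', hd']; simp only [mul_assoc]
    rw [this]
    exact (FischerSpace.commute_iff_sq MD.set hd hd'D).1 hc
  have hne' : e ≠ e' := by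
    intro h
    apply hne
    have hde : d * e = e * d := by
      conv_rhs => rw [h, he', mul_assoc, d2, mul_one]
    rw [hd', ← hde, mul_assoc, e2, mul_one]
  obtain ⟨a, ha, ha1⟩ := MD.R_ne_bot hd
  have hea : ρ e a ∈ R ρ d' := by
    have := conjR e ha
    rwa [FischerSpace.inv_eq ME.set he] at this
  set y := ρ e a * a with hy
  have hyE : y ∈ R ρ e := A_mem e a
  have hdy : ρ d y = y := by
    rw [hy, map_mul, MD.fix_self hd ha, MD.quad' hd'D hd hc.symm hea]
  have hyE' : y ∈ R ρ e' := by
    have := conjR d hyE
    rwa [FischerSpace.inv_eq MD.set hd, hdy] at this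
  have hy1 := ME.disjoint he he'E hne' hyE hyE'
  rw [hy, mul_eq_one_iff_eq_inv, MD.inv_self] at hy1
  exact ha1 (MD.disjoint hd hd'D (fun h => hne h.symm) ha (hy1 ▸ hea))

/-- If both classes exist, every member of the second lies in the first. -/
theorem images_eq [Finite X] (MD : Mod ρ D) (ME : Mod ρ E) (hcore : Cfsg.pCore 2 X = ⊥) {e : X}
    (he : e ∈ E) : e ∈ D := by
  haveI : Fact (Nat.Prime 2) := ⟨Nat.prime_two⟩
  have e2 := FischerSpace.mul_self ME.set he
  have hconj : ∀ {d : X}, d ∈ D → e * d * e ∈ D := fun {d} hd => by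
    have := MD.inv e d hd
    rwa [FischerSpace.inv_eq ME.set he] at this
  have central_one : ∀ q : X, q * q = 1 → (∀ d ∈ D, Commute q d) → q = 1 := by
    intro q hq hcom
    have hqc : ∀ g : X, Commute q g := by
      intro g
      have : Subgroup.closure D ≤ Subgroup.centralizer {q} := (Subgroup.closure_le _).2 fun d hd =>
        Subgroup.mem_centralizer_singleton_iff.2 (hcom d hd).eq.symm
      exact (Subgroup.mem_centralizer_singleton_iff.1
        (this (by rw [MD.gen]; exact Subgroup.mem_top g))).symm
    have hn : (Subgroup.zpowers q).Normal := ⟨fun n hn g => by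
      obtain ⟨k, rfl⟩ := hn
      refine ⟨k, ?_⟩
      show q ^ k = g * q ^ k * g⁻¹
      rw [← ((hqc g).zpow_left k).eq, mul_inv_cancel_right]⟩
    have hp : IsPGroup 2 (Subgroup.zpowers q) := by
      rintro ⟨_, k, rfl⟩
      refine ⟨1, Subtype.ext ?_⟩
      show (q ^ k) ^ (2 ^ 1) = 1
      rw [pow_one, pow_two, ← (Commute.refl q).mul_zpow, hq, one_zpow]
    have := Thompson.le_pCore hn hp (Subgroup.mem_zpowers q)
    rwa [hcore, Subgroup.mem_bot] at this
  obtain ⟨d₀, hd₀, hmov₀⟩ : ∃ d ∈ D, e * d * e ≠ d := by
    by_contra h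
    push Not at h
    refine FischerSpace.ne_one ME.set he (central_one e e2 fun d hd => ?_)
    exact FischerSpace.commute_of_conj_eq ME.set he (h d hd)
  -- data attached to a moved point
  have hmoved : ∀ d ∈ D, e * d * e ≠ d → ∃ h ∈ D, h = d * (e * d * e) * d ∧
      e * h * e = h ∧ ¬ Commute d (e * d * e) ∧
      (∀ w, tr ρ d (e * d * e) w = 1 → ρ e w = w → w ∈ R ρ e) ∧
      (∀ w ∈ R ρ e, w ∈ R ρ d ⊔ R ρ (e * d * e)) := by
    intro d hd hne
    have d2 := FischerSpace.mul_self MD.set hd
    set d' := e * d * e with hd'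
    have hd'D : d' ∈ D := hconj hd
    have hnc : ¬ Commute d d' := fun hc => hne (MD.conj_eq_of_commute ME hd he hc)
    refine ⟨d * d' * d, FischerSpace.conj_mem MD.set MD.inv hd hd'D, rfl, ?_, hnc, ?_, ?_⟩
    · calc e * (d * d' * d) * e = (e * d * e) * d * (e * d * e) := by
            rw [hd']
            simp only [mul_assoc, FischerSpace.mul_left_cancel_self ME.set he]
        _ = d' * d * d' := by rw [← hd']
        _ = d * d' * d := (FischerSpace.braid MD.set hd hd'D hnc).symm
    · intro w htr hew
      set e' := d * e * d with he'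
      refine ⟨ρ e' w, ?_⟩
      have h1 : d * d' = e' * e := by rw [he', hd']; simp only [mul_assoc]
      have h2 : d' * d = e * e' := by rw [he', hd']; simp only [mul_assoc]
      rw [tr, h1, h2, ← act_act e' e, ← act_act e e', hew, mul_assoc,
        mul_eq_one_iff_eq_inv, MD.inv_self] at htr
      rw [A_apply, mul_comm]
      exact htr.symm
    · intro w hw
      set e' := d * e * d with he'
      have he'E : e' ∈ E := by
        have := ME.inv d e he
        rwa [FischerSpace.inv_eq MD.set hd] at this
      have hee : ¬ Commute e e' := by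
        intro hc
        apply hnc
        rw [FischerSpace.commute_iff_sq MD.set hd hd'D]
        have : d * d' = e' * e := by rw [he', hd']; simp only [mul_assoc]
        rw [this]
        exact (FischerSpace.commute_iff_sq ME.set he'E he).1 hc.symm
      refine MD.mem_W_of_tr hd hd'D hnc ?_
      have h1 : d * d' = e' * e := by rw [he', hd']; simp only [mul_assoc]
      have h2 : d' * d = e * e' := by rw [he', hd']; simp only [mul_assoc]
      have := ME.tr_R he he'E hee hw
      rw [tr_symm] at this
      rw [tr, h1, h2]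
      exact this
  obtain ⟨h, hh, hhdef, heh, hnc₀, hin₀, hW₀⟩ := hmoved d₀ hd₀ hmov₀
  obtain ⟨y, hyh, hye, hy1⟩ : ∃ y, y ∈ R ρ h ∧ y ∈ R ρ e ∧ y ≠ 1 := by
    have htr : ∀ w ∈ R ρ h, tr ρ d₀ (e * d₀ * e) w = 1 := fun w hw =>
      MD.tr_of_mem_W hd₀ (hconj hd₀) hnc₀ (MD.third_mem_W hd₀ (hhdef ▸ hw))
    obtain ⟨r, hr, hr1⟩ := MD.R_ne_bot hh
    by_cases hfix : ρ e r = r
    · exact ⟨r, hr, hin₀ r (htr r hr) hfix, hr1⟩
    · have her : ρ e r ∈ R ρ h := by
        have := conjR e hr
        rwa [FischerSpace.inv_eq ME.set he, heh] at this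
      refine ⟨r * ρ e r, mul_mem hr her, hin₀ _ (htr _ (mul_mem hr her)) ?_, fun h' => hfix ?_⟩
      · rw [map_mul, act_act, e2, act_one, mul_comm]
      · rw [mul_eq_one_iff_eq_inv, MD.inv_self] at h'
        exact h'.symm
  -- the point `h` is the only one with this property
  have huniq : ∀ k ∈ D, e * k * e = k → ∀ w, w ∈ R ρ k → w ∈ R ρ e → w ≠ 1 →
      ∀ d ∈ D, e * d * e ≠ d → k = d * (e * d * e) * d := by
    intro k hk hek w hwk hwe hw1 d hd hne
    obtain ⟨-, -, -, -, hnc, -, hW⟩ := hmoved d hd hne
    by_contra hkh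
    refine hw1 (MD.triangle hd (hconj hd) hnc hk ?_ ?_ hkh hwk (hW w hwe))
    · intro e1; exact hne (e1 ▸ hek)
    · intro e1
      apply hne
      rw [e1] at hek
      calc e * d * e = e * (e * d * e) * e := hek.symm
        _ = d := by simp only [← mul_assoc, e2, one_mul]; rw [mul_assoc, e2, mul_one]
  have key : ∀ d ∈ D, e * d * e = h * d * h := by
    intro d hd
    have d2 := FischerSpace.mul_self MD.set hd
    by_cases hne : e * d * e = d
    · rw [hne]
      refine (FischerSpace.conj_eq_of_commute MD.set hh ?_).symm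
      by_contra hnc
      set k := d * h * d with hk
      have hkD : k ∈ D := FischerSpace.conj_mem MD.set MD.inv hd hh
      have hde : Commute e d := FischerSpace.commute_of_conj_eq ME.set he hne
      have hek : e * k * e = k := by
        calc e * k * e = (e * d) * h * (d * e) := by rw [hk]; simp only [mul_assoc]
          _ = (d * e) * h * (e * d) := by rw [hde.eq]
          _ = d * (e * h * e) * d := by simp only [mul_assoc]
          _ = k := by rw [heh]
      have hyk : ρ d y ∈ R ρ k := by
        have := conjR d hyh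
        rwa [FischerSpace.inv_eq MD.set hd] at this
      have hye' : ρ d y ∈ R ρ e := by
        have := conjR d hye
        rwa [hde.symm.eq, mul_inv_cancel_right] at this
      have hk1 := huniq k hkD hek _ hyk hye' (fun e1 => hy1 (by simpa using e1)) d₀ hd₀ hmov₀
      rw [← hhdef] at hk1
      exact hnc (FischerSpace.commute_of_conj_eq MD.set hd hk1).symm
    · obtain ⟨-, -, -, -, hnc, -, -⟩ := hmoved d hd hne
      set d' := e * d * e with hd'
      have hd'D : d' ∈ D := hconj hd
      have hk := huniq h hh heh y hyh hye hy1 d hd hne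
      rw [hk]
      calc d' = d * (d * d' * d) * d := (FischerSpace.conj_conj_self MD.set hd d').symm
        _ = d * (d' * d * d') * d := by rw [← FischerSpace.braid MD.set hd hd'D hnc]
        _ = _ := by
          conv_rhs => rw [show d * d' * d * d * (d * d' * d) = (d * d') * (d * d) * (d * d' * d) by
            simp only [mul_assoc]]
          rw [d2, mul_one]
          simp only [mul_assoc]
  have hh2 := FischerSpace.mul_self MD.set hh
  have hhe : Commute h e := (FischerSpace.commute_of_conj_eq ME.set he heh).symm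
  have hq : h * e = 1 := by
    refine central_one _ ?_ fun d hd => ?_
    · rw [show h * e * (h * e) = h * (e * h) * e by simp only [mul_assoc], ← hhe.eq, ← mul_assoc,
        hh2, one_mul, e2]
    · show h * e * d = d * (h * e)
      calc h * e * d = h * (e * d * e) * e := by rw [mul_assoc h (e * d * e) e, mul_assoc (e * d) e e, e2]; simp [mul_assoc]
        _ = h * (h * d * h) * e := by rw [key d hd]
        _ = d * (h * e) := by simp only [← mul_assoc, hh2, one_mul]
  rw [mul_eq_one_iff_eq_inv, FischerSpace.inv_eq ME.set he] at hq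
  exact hq ▸ hh

end Mod

end Cfsg.Agent.Sporadic96.TwoModule
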