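import Cfsg.Agent.Lib.FischerSpace.Structure
import Cfsg.Agent.Sporadic96.TwoRadicalImages

/-!
# An elementary abelian 2-radical forces a unique class of 3-transpositions
-/

set_option autoImplicit false

namespace Cfsg.Agent.Sporadic96.UniqueClass

open Cfsg.Agent Cfsg.Agent.Sporadic96.TwoModule
open scoped IsMulCommutative

variable {G : Type*} [Group G] [Finite G] {C : Set G}

theorem two_members (hC : Cfsg.IsThreeTranspositionClass C) (hZ : Subgroup.center G = ⊥) :
    ∃ a ∈ C, ∃ b ∈ C, a ≠ b := by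
  obtain ⟨a, ha, -⟩ := hC.2.1
  by_contra h
  push Not at h
  have hle : Subgroup.closure C ≤ Subgroup.centralizer {a} := (Subgroup.closure_le _).2 fun b hb => by
    rw [← h a ha b hb]; exact Subgroup.mem_centralizer_singleton_iff.2 rfl
  have : a ∈ Subgroup.center G := Subgroup.mem_center_iff.2 fun g =>
    Subgroup.mem_centralizer_singleton_iff.1 (hle (by rw [hC.2.2]; exact Subgroup.mem_top g))
  rw [hZ, Subgroup.mem_bot] at this
  exact FischerSpace.ne_one hC.1 ha this

theorem eq_one_of_two_three {x : G} (hx : x ∈ Cfsg.pCore 2 G) (h3 : x ^ 3 = 1) : x = 1 := by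
  haveI : Fact (Nat.Prime 2) := ⟨Nat.prime_two⟩
  obtain ⟨k, hk⟩ := FischerSpace.order_dvd_of_mem_pCore hx
  exact FischerSpace.eq_one_of_pow h3 hk (by norm_num)

theorem not_mem_core (hC : Cfsg.IsThreeTranspositionClass C) (hZ : Subgroup.center G = ⊥) {e : G}
    (he : e ∈ C) : e ∉ Cfsg.pCore 2 G := by
  intro heQ
  have hle : Subgroup.closure C ≤ Cfsg.pCore 2 G := (Subgroup.closure_le _).2 fun f hf => by
    obtain ⟨g, rfl⟩ := FischerSpace.class_isConj hC he hf
    exact (inferInstance : (Cfsg.pCore 2 G).Normal).conj_mem e heQ g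
  obtain ⟨b, hb, hab⟩ := FischerSpace.exists_not_commute hC (two_members hC hZ) he
  have h1 := eq_one_of_two_three (hle (by rw [hC.2.2]; exact Subgroup.mem_top (e * b)))
    (FischerSpace.cube_eq_one hC.1 he hb hab)
  exact hab (by rw [FischerSpace.commute_iff_sq hC.1 he hb, h1, one_pow])

/-- The action of `G / O₂(G)` on an abelian `O₂(G)`. -/
def action (hcomm : ∀ a b : Cfsg.pCore 2 G, a * b = b * a) :
    G ⧸ Cfsg.pCore 2 G →* MulAut (Cfsg.pCore 2 G) :=
  QuotientGroup.lift _ MulAut.conjNormal fun g hg => by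
    refine MonoidHom.mem_ker.2 (MulEquiv.ext fun v => Subtype.ext ?_)
    rw [MulAut.conjNormal_apply, MulAut.one_apply]
    have := congrArg Subtype.val (hcomm ⟨g, hg⟩ v)
    exact mul_inv_eq_iff_eq_mul.2 this

theorem action_mk (hcomm : ∀ a b : Cfsg.pCore 2 G, a * b = b * a) (g : G) (v : Cfsg.pCore 2 G) :
    ((action hcomm (g : G ⧸ Cfsg.pCore 2 G) v : Cfsg.pCore 2 G) : G) = g * v * g⁻¹ :=
  MulAut.conjNormal_apply g v

theorem image_commute (hC : Cfsg.IsThreeTranspositionClass C) {d f : G} (hd : d ∈ C) (hf : f ∈ C) :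
    Commute (d : G ⧸ Cfsg.pCore 2 G) (f : G ⧸ Cfsg.pCore 2 G) ↔ Commute d f := by
  refine ⟨fun h => ?_, fun h => h.map (QuotientGroup.mk' _)⟩
  by_contra hnc
  have h3 := FischerSpace.cube_eq_one hC.1 hd hf hnc
  have h2 : ((d * f : G) : G ⧸ Cfsg.pCore 2 G) ^ 2 = 1 := by
    rw [QuotientGroup.mk_mul, h.mul_pow, ← QuotientGroup.mk_pow, ← QuotientGroup.mk_pow, pow_two,
      pow_two, FischerSpace.mul_self hC.1 hd, FischerSpace.mul_self hC.1 hf, QuotientGroup.mk_one, one_mul]
  have h3' : ((d * f : G) : G ⧸ Cfsg.pCore 2 G) ^ 3 = 1 := by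
    rw [← QuotientGroup.mk_pow, h3, QuotientGroup.mk_one]
  rw [pow_succ, h2, one_mul, QuotientGroup.eq_one_iff] at h3'
  have h1 := eq_one_of_two_three h3' h3
  exact hnc ((FischerSpace.commute_iff_sq hC.1 hd hf).2 (by rw [h1, one_pow]))

/-- `u d u⁻¹ = [u, d] d`. -/
theorem conj_eq (hC : Cfsg.IsThreeTranspositionClass C) (hcomm : ∀ a b : Cfsg.pCore 2 G, a * b = b * a)
    (hsq : ∀ v : Cfsg.pCore 2 G, v * v = 1) {d : G} (hd : d ∈ C) (u : Cfsg.pCore 2 G) :
    (u : G) * d * (u : G)⁻¹ =
      ((action hcomm (d : G ⧸ Cfsg.pCore 2 G) u * u : Cfsg.pCore 2 G) : G) * d := by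
  rw [hcomm (action hcomm (d : G ⧸ Cfsg.pCore 2 G) u) u, Subgroup.coe_mul, action_mk]
  have hu : (u : G)⁻¹ = u := inv_eq_of_mul_eq_one_left (congrArg Subtype.val (hsq u))
  rw [hu, FischerSpace.inv_eq hC.1 hd]
  simp only [mul_assoc, FischerSpace.mul_self hC.1 hd, mul_one]

variable [hab : IsMulCommutative (Cfsg.pCore 2 G)]

local notation "Q" => Cfsg.pCore 2 G

/-- The action. -/
noncomputable abbrev act : G ⧸ Q →* MulAut Q := action fun a b => mul_comm a b

theorem action_inj (hF : Cfsg.generalizedFittingSubgroup G = Q) :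
    Function.Injective (act (G := G)) := by
  rw [injective_iff_map_eq_one]
  intro x hx
  obtain ⟨g, rfl⟩ := QuotientGroup.mk_surjective x
  rw [QuotientGroup.eq_one_iff]
  have hg : g ∈ Subgroup.centralizer (Cfsg.generalizedFittingSubgroup G : Set G) := by
    rw [hF]
    refine Subgroup.mem_centralizer_iff.2 fun v hv => ?_
    have := action_mk (fun a b => mul_comm a b) g ⟨v, hv⟩
    rw [show action (fun a b => mul_comm a b) (g : G ⧸ Q) = 1 from hx, MulAut.one_apply] at this
    exact (mul_inv_eq_iff_eq_mul.1 this.symm).symm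
  exact hF ▸ Components.centralizer_generalizedFitting_le hg

theorem mod_of_class (hC : Cfsg.IsThreeTranspositionClass C) (hZ : Subgroup.center G = ⊥)
    (hF : Cfsg.generalizedFittingSubgroup G = Q) (hsq : ∀ v : Q, v * v = 1) :
    Mod (act (G := G)) (QuotientGroup.mk' Q '' C) := by
  set π := QuotientGroup.mk' Q with hπ
  refine ⟨FischerSpace.set_image hC.1 π fun e he h1 =>
    not_mem_core hC hZ he ((QuotientGroup.eq_one_iff e).1 h1), ?_, ?_, action_inj hF, hsq, ?_, ?_, ?_⟩
  · rintro g _ ⟨e, he, rfl⟩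
    obtain ⟨g, rfl⟩ := QuotientGroup.mk'_surjective Q g
    exact ⟨g * e * g⁻¹, FischerSpace.class_invariant hC g e he, by simp [π]⟩
  · rw [← MonoidHom.map_closure, hC.2.2,
      Subgroup.map_top_of_surjective π (QuotientGroup.mk'_surjective _)]
  · rintro _ ⟨d, hd, rfl⟩ _ ⟨f, hf, rfl⟩ hc u
    have hdf : Commute d f := (image_commute hC hd hf).1 hc
    have hd'C : (u : G) * d * (u : G)⁻¹ ∈ C := FischerSpace.class_invariant hC _ d hd
    have hd'f : Commute ((u : G) * d * (u : G)⁻¹) f := by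
      rw [← image_commute hC hd'C hf]
      have : (((u : G) * d * (u : G)⁻¹ : G) : G ⧸ Q) = (d : G ⧸ Q) := by
        simp [(QuotientGroup.eq_one_iff (u : G)).2 u.2]
      rw [this]
      exact hc
    set t := A (act (G := G)) (π d) u with ht
    have e : (u : G) * d * (u : G)⁻¹ * d = (t : G) := by
      rw [conj_eq hC (fun a b => mul_comm a b) hsq hd u, FischerSpace.mul_right_cancel_self hC.1 hd]
      rfl
    have htf : Commute f (t : G) := e ▸ hd'f.symm.mul_right hdf.symm
    refine Subtype.ext ?_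
    show ((action _ (f : G ⧸ Q) t : Q) : G) = t
    rw [action_mk]
    exact mul_inv_eq_iff_eq_mul.2 htf.eq
  · rintro _ ⟨d, hd, rfl⟩ _ ⟨f, hf, rfl⟩ hnc v hv
    have hdf : ¬ Commute d f := fun h => hnc (h.map π)
    have hvx : Commute (v : G) (d * f) := by
      have := congrArg Subtype.val hv
      rw [← map_mul] at this
      change ((action _ ((d * f : G) : G ⧸ Q) v : Q) : G) = v at this
      rw [action_mk] at this
      exact (mul_inv_eq_iff_eq_mul.1 this).symm
    set t := act (G := G) (π d) v * v with ht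
    have e : (v : G) * d * (v : G)⁻¹ = (t : G) * d := conj_eq hC (fun a b => mul_comm a b) hsq hd v
    have hd'C : (t : G) * d ∈ C := e ▸ FischerSpace.class_invariant hC _ d hd
    have hd'nc : ¬ Commute ((t : G) * d) f := fun hh => hnc (by
      have h' := hh.map π
      rw [map_mul, show π (t : G) = 1 from (QuotientGroup.eq_one_iff _).2 t.2, one_mul] at h'
      exact h')
    have htx : Commute (t : G) (d * f) := by
      have et : (t : G) = (v : G) * d * (v : G)⁻¹ * d := by
        rw [e, FischerSpace.mul_right_cancel_self hC.1 hd]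
      have hinv : d * (d * f) * d = (d * f)⁻¹ := by
        rw [mul_inv_rev, FischerSpace.inv_eq hC.1 hd, FischerSpace.inv_eq hC.1 hf,
          FischerSpace.mul_left_cancel_self hC.1 hd]
      -- `v` commutes with `d f` and `d` inverts it
      have h1 : (v : G) * (d * f) * (v : G)⁻¹ = d * f := by rw [hvx.eq, mul_inv_cancel_right]
      show (t : G) * (d * f) = d * f * (t : G)
      have hd1 : d * (d * f) = (d * f)⁻¹ * d := by
        rw [← hinv, FischerSpace.mul_right_cancel_self hC.1 hd]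
      have hd2 : d * (d * f)⁻¹ = d * f * d := by
        rw [mul_inv_rev, FischerSpace.inv_eq hC.1 hd, FischerSpace.inv_eq hC.1 hf]
        simp only [mul_assoc]
      calc (t : G) * (d * f) = (v : G) * d * (v : G)⁻¹ * (d * (d * f)) := by
            rw [et]; simp only [mul_assoc]
        _ = (v : G) * d * ((v : G)⁻¹ * (d * f)⁻¹) * d := by rw [hd1]; simp only [mul_assoc]
        _ = (v : G) * (d * (d * f)⁻¹) * (v : G)⁻¹ * d := by
            rw [(hvx.inv_inv).eq]; simp only [mul_assoc]
        _ = ((v : G) * (d * f)) * d * (v : G)⁻¹ * d := by rw [hd2]; simp only [mul_assoc]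
        _ = d * f * (t : G) := by rw [hvx.eq, et]; simp only [mul_assoc]
    have h3 := FischerSpace.cube_eq_one hC.1 hd'C hf hd'nc
    rw [mul_assoc, htx.mul_pow, FischerSpace.cube_eq_one hC.1 hd hf hdf, mul_one] at h3
    have h1 : t = 1 := Subtype.ext (eq_one_of_two_three t.2 h3)
    rw [ht, mul_eq_one_iff_eq_inv, inv_eq_of_mul_eq_one_left (hsq v)] at h1
    exact h1
  · rintro _ ⟨d, hd, rfl⟩ _ ⟨f, hf, rfl⟩ hne
    by_contra hall
    push Not at hall
    refine hne ?_
    have hv : FischerSpace.VRel C d f := ⟨hf, fun e he => by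
      have h := hall (π e) ⟨e, he, rfl⟩
      change (Commute (d : G ⧸ Q) (e : G ⧸ Q) ↔ Commute (f : G ⧸ Q) (e : G ⧸ Q)) at h
      rw [image_commute hC hd he, image_commute hC hf he] at h
      exact h.symm⟩
    have := FischerSpace.vRel_mul_mem_pCore hC.1 (FischerSpace.class_invariant hC) hd hv
    show (d : G ⧸ Q) = (f : G ⧸ Q)
    rw [QuotientGroup.eq, FischerSpace.inv_eq hC.1 hd]
    exact this

theorem unique_class {D E : Set G} (hD : Cfsg.IsThreeTranspositionClass D)
    (hE : Cfsg.IsThreeTranspositionClass E) (hZ : Subgroup.center G = ⊥)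
    (hF : Cfsg.generalizedFittingSubgroup G = Q) (hsq : ∀ v : Q, v * v = 1) : E = D := by
  classical
  haveI : Fact (Nat.Prime 2) := ⟨Nat.prime_two⟩
  set π := QuotientGroup.mk' Q with hπ
  set ρ := act (G := G) with hρ
  have MD : Mod ρ (π '' D) := mod_of_class hD hZ hF hsq
  have ME : Mod ρ (π '' E) := mod_of_class hE hZ hF hsq
  have hcore : Cfsg.pCore 2 (G ⧸ Q) = ⊥ := Thompson.pCore_quotient_pCore
  -- a lift in `E` of every member of `D`
  have hlift : ∀ d ∈ D, ∃ v : Q, (v : G) * d ∈ E := by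
    intro d hd
    obtain ⟨e, he, hed⟩ := ME.images_eq MD hcore (e := π d) ⟨d, hd, rfl⟩
    refine ⟨⟨e * d⁻¹, ?_⟩, ?_⟩
    · rw [← QuotientGroup.eq_one_iff]
      show π (e * d⁻¹) = 1
      rw [map_mul, map_inv, hed, mul_inv_cancel]
    · show e * d⁻¹ * d ∈ E
      rwa [inv_mul_cancel_right]
  choose! v hv using hlift
  have coe_act : ∀ (g : G) (u : Q), ((ρ (π g) u : Q) : G) = g * u * g⁻¹ := fun g u =>
    action_mk (fun a b => mul_comm a b) g u
  have hvd : ∀ d ∈ D, ρ (π d) (v d) = v d := by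
    intro d hd
    have h2 := FischerSpace.mul_self hE.1 (hv d hd)
    have h : v d * ρ (π d) (v d) = 1 := by
      refine Subtype.ext ?_
      rw [Subgroup.coe_mul, coe_act, FischerSpace.inv_eq hD.1 hd, OneMemClass.coe_one, ← h2]
      simp only [mul_assoc]
    exact (eq_inv_of_mul_eq_one_right h).trans (inv_eq_of_mul_eq_one_left (hsq _))
  -- the two relations
  have hrel3 : ∀ d ∈ D, ∀ f ∈ D, ¬ Commute d f →
      Mod.tr ρ (π d) (π f) (v d) = Mod.tr ρ (π d) (π f) (v f) := by
    intro d hd f hf hnc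
    have hncX : ¬ Commute (π d) (π f) := fun h => hnc ((image_commute hD hd hf).1 h)
    have hncE : ¬ Commute ((v d : G) * d) ((v f : G) * f) := by
      intro h
      apply hncX
      have h' := h.map π
      rwa [map_mul, map_mul, show π (v d : G) = 1 from (QuotientGroup.eq_one_iff _).2 (v d).2,
        show π (v f : G) = 1 from (QuotientGroup.eq_one_iff _).2 (v f).2, one_mul, one_mul] at h'
    have h3 := FischerSpace.cube_eq_one hE.1 (hv d hd) (hv f hf) hncE
    have hx3 := FischerSpace.cube_eq_one hD.1 hd hf hnc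
    set t : Q := v d * ρ (π d) (v f) with ht
    obtain ⟨k1, -, -, -⟩ := MD.df3 ⟨d, hd, rfl⟩ ⟨f, hf, rfl⟩ hncX
    have et : (v d : G) * d * ((v f : G) * f) = (t : G) * (d * f) := by
      rw [ht, Subgroup.coe_mul, coe_act]; group
    have htr : Mod.tr ρ (π d) (π f) t = 1 := by
      refine Subtype.ext ?_
      rw [Mod.tr, Subgroup.coe_mul, Subgroup.coe_mul, ← k1, ← map_mul, ← map_mul, coe_act, coe_act,
        OneMemClass.coe_one]
      set x := d * f with hx
      rw [et] at h3
      have : (t : G) * (x * t * x⁻¹) * (x * x * t * (x * x)⁻¹) = ((t : G) * x) ^ 3 * (x ^ 3)⁻¹ := by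
        simp only [pow_succ, pow_zero, one_mul]; group
      rw [this, h3, hx3, inv_one, mul_one]
    have hfw := hvd f hf
    have hwf : Mod.tr ρ (π d) (π f) (ρ (π d) (v f)) = Mod.tr ρ (π d) (π f) (v f) := by
      have hdd : ∀ w, ρ (π d) (ρ (π d) w) = w := fun w => by
        rw [act_act, FischerSpace.mul_self MD.set ⟨d, hd, rfl⟩, act_one]
      have hbr : ρ (π d) (ρ (π f) (ρ (π d) (v f))) = ρ (π f) (ρ (π d) (v f)) := by
        rw [act_act, act_act, FischerSpace.braid MD.set ⟨d, hd, rfl⟩ ⟨f, hf, rfl⟩ hncX, ← act_act,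
          ← act_act, hfw]
      simp only [Mod.tr, ← act_act, hdd, hfw, hbr]
      ac_rfl
    rw [ht, Mod.tr_mul, hwf, mul_eq_one_iff_eq_inv, MD.inv_self] at htr
    exact htr
  have hrel2 : ∀ d ∈ D, ∀ g ∈ D, Commute d g → A ρ (π g) (v d) = A ρ (π d) (v g) := by
    intro d hd g hg hc
    have hcE : Commute ((v d : G) * d) ((v g : G) * g) := by
      refine (image_commute hE (hv d hd) (hv g hg)).1 ?_
      rw [QuotientGroup.mk_mul, QuotientGroup.mk_mul, (QuotientGroup.eq_one_iff _).2 (v d).2,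
        (QuotientGroup.eq_one_iff _).2 (v g).2, one_mul, one_mul]
      exact hc.map π
    have h : v d * ρ (π d) (v g) = v g * ρ (π g) (v d) := by
      refine Subtype.ext ?_
      rw [Subgroup.coe_mul, Subgroup.coe_mul, coe_act, coe_act]
      calc (v d : G) * (d * (v g : G) * d⁻¹) = (v d : G) * d * ((v g : G) * g) * (g⁻¹ * d⁻¹) := by group
        _ = (v g : G) * g * ((v d : G) * d) * (d⁻¹ * g⁻¹) := by
          rw [hcE.eq, (hc.symm.inv_inv).eq]
        _ = _ := by group
    rw [A_apply, A_apply]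
    calc ρ (π g) (v d) * v d = v g * ρ (π g) (v d) * (v g * v d) := by
          rw [show v g * ρ (π g) (v d) * (v g * v d) = (v g * v g) * (ρ (π g) (v d) * v d) by ac_rfl,
            hsq, one_mul]
      _ = v d * ρ (π d) (v g) * (v g * v d) := by rw [h]
      _ = (v d * v d) * (ρ (π d) (v g) * v g) := by ac_rfl
      _ = _ := by rw [hsq, one_mul]
  -- the constant attached to an edge
  let P : G → G → Q → Prop := fun d f c => ρ (π d) c = c ∧ ρ (π f) c = c ∧
    v d * c ∈ R ρ (π d) ∧ v f * c ∈ R ρ (π f)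
  have hex : ∀ d ∈ D, ∀ f ∈ D, ¬ Commute d f → ∃ c, P d f c := by
    intro d hd f hf hnc
    have hncX : ¬ Commute (π d) (π f) := fun h => hnc ((image_commute hD hd hf).1 h)
    have hdI : π d ∈ π '' D := ⟨d, hd, rfl⟩
    have hfI : π f ∈ π '' D := ⟨f, hf, rfl⟩
    obtain ⟨c1, c2⟩ := MD.fix_both hdI hfI hncX (MD.x_fix_tr hdI hfI hncX (v d))
    refine ⟨_, c1, c2, ?_, ?_⟩
    · refine ⟨ρ (π f) (v d), ?_⟩
      rw [A_apply, Mod.tr, act_act, mul_assoc (v d), MD.cancel, ← act_act (π f) (π d), hvd d hd]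
    · refine ⟨ρ (π d) (v f), ?_⟩
      rw [hrel3 d hd f hf hnc, A_apply, Mod.tr, mul_assoc (v f), MD.cancel, act_act,
        ← act_act (π d) (π f), hvd f hf]
      exact mul_comm _ _
  have huniq : ∀ d ∈ D, ∀ f ∈ D, ∀ g ∈ D, ¬ Commute d f → ¬ Commute f g →
      ∀ c1 c2, P d f c1 → P f g c2 → c1 = c2 := by
    intro d hd f hf g hg hdf hfg c1 c2 h1 h2
    obtain ⟨a1, b1, m1, n1⟩ := h1
    obtain ⟨a2, b2, m2, n2⟩ := h2
    have hdI : π d ∈ π '' D := ⟨d, hd, rfl⟩
    have hfI : π f ∈ π '' D := ⟨f, hf, rfl⟩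
    have hgI : π g ∈ π '' D := ⟨g, hg, rfl⟩
    have hdfX : ¬ Commute (π d) (π f) := fun h => hdf ((image_commute hD hd hf).1 h)
    have hfgX : ¬ Commute (π f) (π g) := fun h => hfg ((image_commute hD hf hg).1 h)
    set r := c1 * c2 with hr
    have hrf : r ∈ R ρ (π f) := by
      have := mul_mem n1 m2
      rwa [show v f * c1 * (v f * c2) = (v f * v f) * r by rw [hr]; ac_rfl, hsq, one_mul] at this
    suffices r = 1 by
      rw [hr, mul_eq_one_iff_eq_inv, MD.inv_self] at this
      exact this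
    by_cases hdg : Commute d g
    · -- compare through `A g (v d) = A d (v g)`
      have hdgX : Commute (π d) (π g) := hdg.map π
      have l : A ρ (π g) (v d) = A ρ (π g) r := by
        have e : v d = (v d * c1) * (c2 * r) := by
          rw [hr, show v d * c1 * (c2 * (c1 * c2)) = v d * ((c1 * c1) * (c2 * c2)) by ac_rfl, hsq,
            hsq, one_mul, mul_one]
        conv_lhs => rw [e]
        have z1 : A ρ (π g) (v d * c1) = 1 := by rw [A_apply, MD.quad' hdI hgI hdgX m1, hsq]
        have z2 : A ρ (π g) c2 = 1 := by rw [A_apply, b2, hsq]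
        rw [map_mul (A ρ (π g)), map_mul (A ρ (π g)) c2, z1, z2, one_mul, one_mul]
      have l' : A ρ (π d) (v g) = A ρ (π d) r := by
        have e : v g = (v g * c2) * (c1 * r) := by
          rw [hr, show v g * c2 * (c1 * (c1 * c2)) = v g * ((c1 * c1) * (c2 * c2)) by ac_rfl, hsq,
            hsq, one_mul, mul_one]
        conv_lhs => rw [e]
        have z1 : A ρ (π d) (v g * c2) = 1 := by rw [A_apply, MD.quad' hgI hdI hdgX.symm n2, hsq]
        have z2 : A ρ (π d) c1 = 1 := by rw [A_apply, a1, hsq]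
        rw [map_mul (A ρ (π d)), map_mul (A ρ (π d)) c1, z1, z2, one_mul, one_mul]
      have hA : A ρ (π g) r = A ρ (π d) r := by rw [← l, ← l', hrel2 d hd g hg hdg]
      by_cases hπdg : π d = π g
      · refine MD.inj_R hfI hdI (fun e => hdfX e.symm) hrf ?_
        rw [hr, map_mul, a1, hπdg, b2]
      · have h0 := MD.disjoint hgI hdI (fun e => hπdg e.symm) (A_mem _ r) (by rw [hA]; exact A_mem _ _)
        rw [A_apply, mul_eq_one_iff_eq_inv, MD.inv_self] at h0
        exact MD.inj_R hfI hgI hfgX hrf h0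
    · have hdgX : ¬ Commute (π d) (π g) := fun h => hdg ((image_commute hD hd hg).1 h)
      by_cases hline : π f = π d * π g * π d
      · refine MD.inj_R hfI hgI hfgX hrf ?_
        have : π g = π d * π f * π d := by
          rw [hline, FischerSpace.conj_conj_self MD.set hdI]
        rw [hr, map_mul, b2]
        congr 1
        rw [this, ← act_act, ← act_act, a1, b1, a1]
      · obtain ⟨c3, a3, b3, m3, n3⟩ := hex d hd g hg hdg
        refine MD.triangle hdI hgI hdgX hfI (fun e => hdfX (e ▸ Commute.refl _))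
          (fun e => hfgX (e ▸ Commute.refl _)) hline hrf ?_
        have e : r = (v d * c1 * (v d * c3)) * (v g * c3 * (v g * c2)) := by
          rw [hr, show v d * c1 * (v d * c3) * (v g * c3 * (v g * c2)) =
            (v d * v d) * (v g * v g) * (c3 * c3) * (c1 * c2) by ac_rfl]
          rw [hsq (v d), hsq (v g), hsq c3, one_mul, one_mul, one_mul]
        rw [e]
        exact mul_mem (Subgroup.mem_sup_left (mul_mem m1 m3)) (Subgroup.mem_sup_right (mul_mem n3 n2))
  obtain ⟨d₀, hd₀, -⟩ := hD.2.1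
  obtain ⟨f₀, hf₀, h0⟩ := FischerSpace.exists_not_commute hD (two_members hD hZ) hd₀
  obtain ⟨c, hc⟩ := hex d₀ hd₀ f₀ hf₀ h0
  let S : Set G := {g | g ∈ D ∧ ∃ h ∈ D, ¬ Commute h g ∧ P h g c}
  have hclosed : ∀ g ∈ S, ∀ k ∈ D, ¬ Commute g k → k ∈ S := by
    rintro g ⟨hg, h, hh, hhg, hP⟩ k hk hgk
    obtain ⟨c', hc'⟩ := hex g hg k hk hgk
    have := huniq h hh g hg k hk hhg hgk c c' hP hc'
    exact ⟨hk, g, hg, hgk, this ▸ hc'⟩
  have hconjS : ∀ t ∈ D, ∀ g ∈ S, t * g * t ∈ S := by
    intro t ht g hg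
    by_cases htg : Commute t g
    · rwa [FischerSpace.conj_eq_of_commute hD.1 ht htg]
    · refine hclosed g hg _ (FischerSpace.conj_mem hD.1 (FischerSpace.class_invariant hD) ht hg.1) ?_
      exact (FischerSpace.not_commute_third hD.1 ht hg.1 htg).2
  have hall : ∀ g ∈ D, g ∈ S := by
    intro g hg
    obtain ⟨w, rfl⟩ := FischerSpace.class_isConj hD hf₀ hg
    have hw : w ∈ Subgroup.closure D := by rw [hD.2.2]; exact Subgroup.mem_top w
    have hmain : ∀ s ∈ S, w * s * w⁻¹ ∈ S := by
      clear hg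
      induction hw using Subgroup.closure_induction'' with
      | one => intro s hs; simpa using hs
      | mem t ht => intro s hs; rw [FischerSpace.inv_eq hD.1 ht]; exact hconjS t ht s hs
      | inv_mem t ht =>
        intro s hs; rw [inv_inv, FischerSpace.inv_eq hD.1 ht]; exact hconjS t ht s hs
      | mul a b _ _ iha ihb =>
        intro s hs
        rw [show a * b * s * (a * b)⁻¹ = a * (b * s * b⁻¹) * a⁻¹ by group]
        exact iha _ (ihb s hs)
    exact hmain f₀ ⟨hf₀, d₀, hd₀, h0, hc⟩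
  have hc1 : c = 1 := by
    have hcen : (c : G) ∈ Subgroup.center G := by
      have hle : Subgroup.closure D ≤ Subgroup.centralizer {(c : G)} :=
        (Subgroup.closure_le _).2 fun g hg => by
          obtain ⟨-, h, -, -, -, hgc, -⟩ := hall g hg
          have := congrArg Subtype.val hgc
          rw [coe_act] at this
          exact Subgroup.mem_centralizer_singleton_iff.2 (mul_inv_eq_iff_eq_mul.1 this)
      exact Subgroup.mem_center_iff.2 fun g =>
        Subgroup.mem_centralizer_singleton_iff.1 (hle (by rw [hD.2.2]; exact Subgroup.mem_top g))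
    rw [hZ, Subgroup.mem_bot] at hcen
    exact Subtype.ext hcen
  obtain ⟨u, hu⟩ := hc.2.2.1
  rw [hc1, mul_one] at hu
  have hmem : (v d₀ : G) * d₀ ∈ D := by
    have e := conj_eq hD (fun a b => mul_comm a b) hsq hd₀ u
    change (u : G) * d₀ * (u : G)⁻¹ = ((A ρ (π d₀) u : Q) : G) * d₀ at e
    rw [hu] at e
    exact e ▸ FischerSpace.class_invariant hD _ d₀ hd₀
  obtain ⟨a, haD, rfl⟩ := hD.2.1
  obtain ⟨b, hbE, rfl⟩ := hE.2.1
  have hb : IsConj b ((v d₀ : G) * d₀) := hv d₀ hd₀
  have ha : IsConj a ((v d₀ : G) * d₀) := hmem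
  ext x
  exact ⟨fun h => show IsConj a x from ha.trans (hb.symm.trans h),
    fun h => show IsConj b x from hb.trans (ha.symm.trans h)⟩

end Cfsg.Agent.Sporadic96.UniqueClass
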