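import Mathlib

/-!
# The group `3^{1+2}:2` of order 54 by generators and relations
-/

set_option autoImplicit false

namespace Cfsg.Agent.Sporadic96.Order54

/-- Normal forms `x^i y^j z^k d^l`. -/
@[ext] structure M where
  i : ZMod 3
  j : ZMod 3
  k : ZMod 3
  l : ZMod 2
deriving DecidableEq

/-- The carrier as a product. -/
def equivProd : M ≃ ZMod 3 × ZMod 3 × ZMod 3 × ZMod 2 where
  toFun a := (a.i, a.j, a.k, a.l)
  invFun a := ⟨a.1, a.2.1, a.2.2.1, a.2.2.2⟩
  left_inv _ := rfl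
  right_inv _ := rfl

instance : Fintype M := Fintype.ofEquiv _ equivProd.symm

/-- The sign by which `d^l` acts on `x` and `y`. -/
def sg (l : ZMod 2) : ZMod 3 := if l = 0 then 1 else -1

instance : Mul M :=
  ⟨fun a b => ⟨a.i + sg a.l * b.i, a.j + sg a.l * b.j, a.k + b.k + a.j * (sg a.l * b.i), a.l + b.l⟩⟩

instance : One M := ⟨⟨0, 0, 0, 0⟩⟩

instance : Inv M := ⟨fun a => ⟨-(sg a.l * a.i), -(sg a.l * a.j), -a.k + a.j * a.i, a.l⟩⟩

theorem mul_def (a b : M) : a * b =
    ⟨a.i + sg a.l * b.i, a.j + sg a.l * b.j, a.k + b.k + a.j * (sg a.l * b.i), a.l + b.l⟩ := rfl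

theorem one_def : (1 : M) = ⟨0, 0, 0, 0⟩ := rfl

theorem inv_def (a : M) : a⁻¹ = ⟨-(sg a.l * a.i), -(sg a.l * a.j), -a.k + a.j * a.i, a.l⟩ := rfl

theorem sg_add : ∀ a b : ZMod 2, sg (a + b) = sg a * sg b := by decide

theorem sg_sq : ∀ a : ZMod 2, sg a * sg a = 1 := by decide

theorem add_self_two : ∀ a : ZMod 2, a + a = 0 := by decide

instance : Group M :=
  Group.ofLeftAxioms
    (fun a b c => by
      ext <;> simp only [mul_def, sg_add]
      · ring
      · ring
      · linear_combination (a.j * 0 + b.j * sg b.l * c.i * (sg_sq a.l))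
      · ring)
    (fun a => by
      ext <;> simp [mul_def, one_def, sg])
    (fun a => by
      ext <;> simp only [mul_def, one_def, inv_def]
      · linear_combination 0 * a.i
      · linear_combination 0 * a.j
      · linear_combination (-(a.j * a.i)) * sg_sq a.l
      · exact add_self_two a.l)

theorem card : Nat.card M = 54 := by
  rw [Nat.card_congr equivProd, Nat.card_prod, Nat.card_prod, Nat.card_prod]
  simp

variable {G : Type*} [Group G]

/-- The defining relations. -/
structure Rel (d x y : G) : Prop where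
  hd : d ^ 2 = 1
  hx : x ^ 3 = 1
  hy : y ^ 3 = 1
  hdx : d * x * d = x⁻¹
  hdy : d * y * d = y⁻¹
  hzx : Commute (y⁻¹ * x⁻¹ * y * x) x
  hzy : Commute (y⁻¹ * x⁻¹ * y * x) y

theorem pow_val_add {x : G} {n : ℕ} [NeZero n] (hx : x ^ n = 1) (a b : ZMod n) :
    x ^ (a + b).val = x ^ a.val * x ^ b.val := by
  rw [← pow_add, ZMod.val_add, ← pow_eq_pow_mod _ hx]

theorem pow_val_mul {x : G} {n : ℕ} [NeZero n] (hx : x ^ n = 1) (a b : ZMod n) :
    x ^ (a * b).val = x ^ (a.val * b.val) := by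
  rw [ZMod.val_mul, ← pow_eq_pow_mod _ hx]

namespace Rel

variable {d x y : G}

/-- `[y, x]`, written so that `y x = x y z`. -/
def z (_h : Rel d x y) : G := y⁻¹ * x⁻¹ * y * x

theorem yx (h : Rel d x y) : y * x = x * y * h.z := by
  simp [z, mul_assoc]

theorem y_xpow (h : Rel d x y) (n : ℕ) : y * x ^ n = x ^ n * y * h.z ^ n := by
  induction n with
  | zero => simp
  | succ n ih =>
    calc y * x ^ (n + 1) = y * x ^ n * x := by rw [pow_succ, mul_assoc]
      _ = x ^ n * y * (h.z ^ n * x) := by rw [ih, mul_assoc]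
      _ = x ^ n * (y * x) * h.z ^ n := by
        rw [((show Commute h.z x from h.hzx).pow_left n).eq]; simp only [mul_assoc]
      _ = x ^ (n + 1) * y * h.z ^ (n + 1) := by rw [h.yx, pow_succ, pow_succ']; simp only [mul_assoc]

theorem ypow_xpow (h : Rel d x y) (m n : ℕ) : y ^ m * x ^ n = x ^ n * y ^ m * h.z ^ (m * n) := by
  induction m with
  | zero => simp
  | succ m ih =>
    calc y ^ (m + 1) * x ^ n = y * (y ^ m * x ^ n) := by rw [pow_succ', mul_assoc]
      _ = (y * x ^ n) * y ^ m * h.z ^ (m * n) := by rw [ih]; simp only [mul_assoc]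
      _ = x ^ n * y * (h.z ^ n * y ^ m) * h.z ^ (m * n) := by rw [h.y_xpow]; simp only [mul_assoc]
      _ = x ^ n * y ^ (m + 1) * h.z ^ ((m + 1) * n) := by
        rw [((show Commute h.z y from h.hzy).pow_pow n m).eq, add_mul, one_mul, add_comm (m * n) n,
          pow_add h.z, pow_succ']
        simp only [mul_assoc]

theorem z_cube (h : Rel d x y) : h.z ^ 3 = 1 := by
  have := h.ypow_xpow 3 1
  rw [h.hy] at this
  simpa using this

theorem d_mul_self (h : Rel d x y) : d * d = 1 := by rw [← pow_two]; exact h.hd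

theorem d_x (h : Rel d x y) : d * x = x⁻¹ * d := by
  rw [← h.hdx, mul_assoc (d * x), h.d_mul_self, mul_one]

theorem d_y (h : Rel d x y) : d * y = y⁻¹ * d := by
  rw [← h.hdy, mul_assoc (d * y), h.d_mul_self, mul_one]

theorem d_z (h : Rel d x y) : Commute d h.z := by
  have hxi : d * x⁻¹ = x * d := by
    calc d * x⁻¹ = d * (d * x * d) := by rw [h.hdx]
      _ = (d * d) * (x * d) := by simp only [mul_assoc]
      _ = x * d := by rw [h.d_mul_self, one_mul]
  have hyi : d * y⁻¹ = y * d := by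
    calc d * y⁻¹ = d * (d * y * d) := by rw [h.hdy]
      _ = (d * d) * (y * d) := by simp only [mul_assoc]
      _ = y * d := by rw [h.d_mul_self, one_mul]
  have e1 : d * h.z = y * x * y⁻¹ * x⁻¹ * d := by
    calc d * h.z = d * y⁻¹ * x⁻¹ * y * x := by simp only [z, mul_assoc]
      _ = y * (d * x⁻¹) * y * x := by rw [hyi]; simp only [mul_assoc]
      _ = y * x * (d * y) * x := by rw [hxi]; simp only [mul_assoc]
      _ = y * x * y⁻¹ * (d * x) := by rw [h.d_y]; simp only [mul_assoc]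
      _ = y * x * y⁻¹ * x⁻¹ * d := by rw [h.d_x]; simp only [mul_assoc]
  have c : Commute h.z (x * y) := (show Commute h.z x from h.hzx).mul_right h.hzy
  have e2 : y * x * y⁻¹ * x⁻¹ = h.z := by
    calc y * x * y⁻¹ * x⁻¹ = x * y * h.z * (x * y)⁻¹ := by
          rw [h.yx]; simp only [mul_inv_rev, mul_assoc]
      _ = h.z := by rw [← c.eq, mul_inv_cancel_right]
  rw [e2] at e1
  exact e1

theorem d_xpow (h : Rel d x y) (a : ZMod 3) : d * x ^ a.val = x ^ (-a).val * d := by
  have hn : ∀ n : ℕ, d * x ^ n = x⁻¹ ^ n * d := fun n => by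
    induction n with
    | zero => simp
    | succ n ih => rw [pow_succ, ← mul_assoc, ih, mul_assoc, h.d_x, ← mul_assoc, ← pow_succ]
  rw [hn, inv_pow]
  congr 1
  rw [inv_eq_iff_mul_eq_one, ← pow_val_add h.hx, add_neg_cancel, ZMod.val_zero, pow_zero]

theorem d_ypow (h : Rel d x y) (a : ZMod 3) : d * y ^ a.val = y ^ (-a).val * d := by
  have hn : ∀ n : ℕ, d * y ^ n = y⁻¹ ^ n * d := fun n => by
    induction n with
    | zero => simp
    | succ n ih => rw [pow_succ, ← mul_assoc, ih, mul_assoc, h.d_y, ← mul_assoc, ← pow_succ]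
  rw [hn, inv_pow]
  congr 1
  rw [inv_eq_iff_mul_eq_one, ← pow_val_add h.hy, add_neg_cancel, ZMod.val_zero, pow_zero]

/-- The normal form map. -/
def toFun (h : Rel d x y) (a : M) : G := x ^ a.i.val * y ^ a.j.val * h.z ^ a.k.val * d ^ a.l.val

theorem dpow_form (h : Rel d x y) (l : ZMod 2) (a b c : ZMod 3) :
    d ^ l.val * (x ^ a.val * y ^ b.val * h.z ^ c.val) =
      x ^ (sg l * a).val * y ^ (sg l * b).val * h.z ^ c.val * d ^ l.val := by
  rcases (show l = 0 ∨ l = 1 from by revert l; decide) with rfl | rfl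
  · simp [sg]
  · rw [show (1 : ZMod 2).val = 1 from rfl, pow_one, show sg (1 : ZMod 2) = -1 from rfl,
      neg_one_mul, neg_one_mul]
    calc d * (x ^ a.val * y ^ b.val * h.z ^ c.val)
        = x ^ (-a).val * (d * y ^ b.val) * h.z ^ c.val := by
          rw [← mul_assoc, ← mul_assoc, h.d_xpow]; simp only [mul_assoc]
      _ = x ^ (-a).val * y ^ (-b).val * (d * h.z ^ c.val) := by rw [h.d_ypow]; simp only [mul_assoc]
      _ = _ := by rw [(h.d_z.pow_right c.val).eq]; simp only [mul_assoc]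

theorem toFun_mul (h : Rel d x y) (a b : M) : h.toFun (a * b) = h.toFun a * h.toFun b := by
  have hzx : ∀ n m : ℕ, Commute (h.z ^ n) (x ^ m) := fun n m => (show Commute h.z x from h.hzx).pow_pow n m
  have hzy : ∀ n m : ℕ, Commute (h.z ^ n) (y ^ m) := fun n m => (show Commute h.z y from h.hzy).pow_pow n m
  set p := sg a.l * b.i with hp
  set q := sg a.l * b.j with hq
  symm
  calc h.toFun a * h.toFun b
      = x ^ a.i.val * y ^ a.j.val * h.z ^ a.k.val *
          (d ^ a.l.val * (x ^ b.i.val * y ^ b.j.val * h.z ^ b.k.val)) * d ^ b.l.val := by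
        simp only [toFun, mul_assoc]
    _ = x ^ a.i.val * y ^ a.j.val * ((h.z ^ a.k.val * x ^ p.val) * y ^ q.val) * h.z ^ b.k.val *
          (d ^ a.l.val * d ^ b.l.val) := by
        rw [h.dpow_form, ← hp, ← hq]; simp only [mul_assoc]
    _ = x ^ a.i.val * (y ^ a.j.val * x ^ p.val) * ((h.z ^ a.k.val * y ^ q.val) * h.z ^ b.k.val) *
          d ^ (a.l + b.l).val := by
        rw [(hzx a.k.val p.val).eq, pow_val_add h.hd]; simp only [mul_assoc]
    _ = x ^ a.i.val * x ^ p.val * y ^ a.j.val *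
          ((h.z ^ (a.j.val * p.val) * y ^ q.val) * (h.z ^ a.k.val * h.z ^ b.k.val)) *
          d ^ (a.l + b.l).val := by
        rw [h.ypow_xpow, (hzy a.k.val q.val).eq]; simp only [mul_assoc]
    _ = h.toFun (a * b) := by
        have e : h.z ^ (a.j.val * p.val) * y ^ q.val * (h.z ^ a.k.val * h.z ^ b.k.val) =
            y ^ q.val * h.z ^ (a.k + b.k + a.j * p).val := by
          rw [(hzy _ q.val).eq, pow_val_add h.z_cube, pow_val_add h.z_cube, pow_val_mul h.z_cube,
            mul_assoc, ← pow_add, ← pow_add, ← pow_add, add_comm]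
        rw [e, toFun, mul_def]
        simp only [← hp, ← hq, pow_val_add h.hx, pow_val_add h.hy, mul_assoc]

/-- The homomorphism from the model. -/
def hom (h : Rel d x y) : M →* G := MonoidHom.mk' h.toFun h.toFun_mul

theorem mem_range_of_mem_closure (h : Rel d x y) {g : G}
    (hg : g ∈ Subgroup.closure ({d, x, y} : Set G)) : g ∈ h.hom.range := by
  refine (Subgroup.closure_le _).2 ?_ hg
  rintro u (rfl | rfl | rfl)
  · exact ⟨⟨0, 0, 0, 1⟩, by simp [hom, toFun, show (1 : ZMod 2).val = 1 from rfl]⟩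
  · exact ⟨⟨1, 0, 0, 0⟩, by simp [hom, toFun, show (1 : ZMod 3).val = 1 from rfl]⟩
  · exact ⟨⟨0, 1, 0, 0⟩, by simp [hom, toFun, show (1 : ZMod 3).val = 1 from rfl]⟩

end Rel

end Cfsg.Agent.Sporadic96.Order54

namespace Cfsg.Agent.Sporadic96.Order54

theorem kernel_witness : ∀ a : M, a ≠ 1 → a.l = 0 →
    (a = ⟨0, 0, 1, 0⟩ ∨ a = ⟨0, 0, 2, 0⟩) ∨
      ∃ e : M, a * e * a⁻¹ * e⁻¹ = ⟨0, 0, 1, 0⟩ ∨ a * e * a⁻¹ * e⁻¹ = ⟨0, 0, 2, 0⟩ := by
  decide +kernel

namespace Rel

variable {G : Type*} [Group G] {d x y : G}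

theorem hom_injective (h : Rel d x y) (P : Subgroup G) (hxP : x ∈ P) (hyP : y ∈ P) (hdP : d ∉ P)
    (hxy : ¬ Commute x y) : Function.Injective h.hom := by
  have hz : h.z ≠ 1 := fun e => hxy (by
    have := h.yx
    rw [e, mul_one] at this
    exact this.symm)
  have hzP : h.z ∈ P := by
    unfold z
    exact mul_mem (mul_mem (mul_mem (inv_mem hyP) (inv_mem hxP)) hyP) hxP
  rw [injective_iff_map_eq_one]
  intro a ha
  by_contra hne
  have hl : a.l = 0 := by
    rcases (show a.l = 0 ∨ a.l = 1 from by generalize a.l = t; revert t; decide) with h0 | h1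
    · exact h0
    · exfalso
      apply hdP
      have e : x ^ a.i.val * y ^ a.j.val * h.z ^ a.k.val * d ^ a.l.val = 1 := ha
      rw [h1, show (1 : ZMod 2).val = 1 from rfl, pow_one] at e
      rw [eq_inv_of_mul_eq_one_right e]
      exact inv_mem (mul_mem (mul_mem (pow_mem hxP _) (pow_mem hyP _)) (pow_mem hzP _))
  have k1 : h.hom ⟨0, 0, 1, 0⟩ = h.z := by simp [hom, toFun, show (1 : ZMod 3).val = 1 from rfl]
  have k2 : h.hom ⟨0, 0, 2, 0⟩ = h.z ^ 2 := by simp [hom, toFun, show (2 : ZMod 3).val = 2 from rfl]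
  have n1 : h.hom ⟨0, 0, 1, 0⟩ ≠ 1 := by rwa [k1]
  have n2 : h.hom ⟨0, 0, 2, 0⟩ ≠ 1 := by
    rw [k2]
    intro e
    have h3 := h.z_cube
    rw [pow_succ, e, one_mul] at h3
    exact hz h3
  rcases kernel_witness a hne hl with (rfl | rfl) | ⟨e, he | he⟩
  · exact n1 ha
  · exact n2 ha
  · exact n1 (by rw [← he]; simp [ha])
  · exact n2 (by rw [← he]; simp [ha])

theorem mem_closure_of_mem_range (h : Rel d x y) {g : G} (hg : g ∈ h.hom.range) :
    g ∈ Subgroup.closure ({d, x, y} : Set G) := by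
  obtain ⟨a, rfl⟩ := hg
  have hd' : d ∈ Subgroup.closure ({d, x, y} : Set G) := Subgroup.subset_closure (by simp)
  have hx' : x ∈ Subgroup.closure ({d, x, y} : Set G) := Subgroup.subset_closure (by simp)
  have hy' : y ∈ Subgroup.closure ({d, x, y} : Set G) := Subgroup.subset_closure (by simp)
  show x ^ a.i.val * y ^ a.j.val * h.z ^ a.k.val * d ^ a.l.val ∈ _
  refine mul_mem (mul_mem (mul_mem (pow_mem hx' _) (pow_mem hy' _)) (pow_mem ?_ _)) (pow_mem hd' _)
  exact mul_mem (mul_mem (mul_mem (inv_mem hy') (inv_mem hx')) hy') hx'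

/-- A faithful generating triple identifies the group with the model. -/
theorem equiv_model (h : Rel d x y) (hinj : Function.Injective h.hom)
    (hgen : Subgroup.closure ({d, x, y} : Set G) = ⊤) : Nonempty (M ≃* G) :=
  ⟨MulEquiv.ofBijective h.hom ⟨hinj, fun g => h.mem_range_of_mem_closure (hgen ▸ Subgroup.mem_top g)⟩⟩

end Rel

end Cfsg.Agent.Sporadic96.Order54
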