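import Cfsg.Agent.Classical10.U32
import Cfsg.Agent.Sporadic96.Order54

/-!
# The derived group of `SU₃(2)` is the model group of order 54
-/

set_option autoImplicit false

namespace Cfsg.Agent.Sporadic96.SU32

open Matrix Cfsg.Agent.U32

/-- The diagonal generator. -/
def X : Matrix (Fin 3) (Fin 3) R := dia 1 w (w * w)

/-- The permutation generator. -/
def C : Matrix (Fin 3) (Fin 3) R := !![0, 1, 0; 0, 0, 1; 1, 0, 0]

/-- The commutator of the two generators. -/
def Zm : Matrix (Fin 3) (Fin 3) R := C * C * (X * X) * C * X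

theorem facts : X ∈ L ∧ C ∈ L ∧ X * X * X = 1 ∧ C * C * C = 1 ∧
    A * A * X * (A * A) = X * X ∧ A * A * C * (A * A) = C * C ∧
    Zm * X = X * Zm ∧ Zm * C = C * Zm ∧ Zm ≠ 1 ∧
    B * A * (B * B * B) * (A * A * A) * (A * A) ∈ L := by decide +kernel

theorem span : ∀ l ∈ L, ∃ i j k : Fin 3, l = X ^ (i : ℕ) * C ^ (j : ℕ) * Zm ^ (k : ℕ) := by
  decide +kernel

variable {F : Type*} [Field F] [Fintype F] (hF : Fintype.card F = 4)

include hF

theorem commutator_card_le : Nat.card (commutator (Cfsg.SU 3 F 2)) ≤ 54 := by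
  obtain ⟨E, hE, hcE, -, -, ⟨e⟩⟩ := U32.exists_structure hF
  haveI := hE
  set π : Cfsg.SU 3 F 2 →* QuaternionGroup 2 := e.toMonoidHom.comp (QuotientGroup.mk' E)
  have hπ : Function.Surjective π := e.surjective.comp (QuotientGroup.mk'_surjective E)
  set Zq : Subgroup (QuaternionGroup 2) := Subgroup.zpowers (QuaternionGroup.a 2) with hZq
  have hle : commutator (Cfsg.SU 3 F 2) ≤ Zq.comap π := by
    rw [← Subgroup.map_le_iff_le_comap, commutator_def, Subgroup.map_commutator,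
      Subgroup.map_top_of_surjective π hπ, Subgroup.commutator_le]
    intro a _ b _
    have key : ∀ a b : QuaternionGroup 2,
        a * b * a⁻¹ * b⁻¹ = 1 ∨ a * b * a⁻¹ * b⁻¹ = QuaternionGroup.a 2 := by decide
    rw [commutatorElement_def]
    rcases key a b with h | h <;> rw [h]
    · exact one_mem _
    · exact Subgroup.mem_zpowers _
  have h8 : Nat.card (QuaternionGroup 2) = 8 := by
    rw [Nat.card_eq_fintype_card, QuaternionGroup.card]
  have hG : Nat.card (Cfsg.SU 3 F 2) = 216 := by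
    rw [Subgroup.card_eq_card_quotient_mul_card_subgroup E, hcE, Nat.card_congr e.toEquiv, h8]
  have hZ2 : Nat.card Zq = 2 := by
    rw [hZq, Nat.card_zpowers]
    exact orderOf_eq_prime (by decide) (by decide)
  have hidx := Zq.card_mul_index
  rw [hZ2, h8] at hidx
  have hc := (Zq.comap π).card_mul_index
  rw [Subgroup.index_comap_of_surjective _ hπ, hG] at hc
  refine (Subgroup.card_le_of_le hle).trans ?_
  have : Zq.index = 4 := by omega
  rw [this] at hc
  omega

theorem model_equiv : Nonempty (Order54.M ≃* commutator (Cfsg.SU 3 F 2)) := by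
  classical
  have hF' : Fintype.card F = 2 ^ 2 := hF
  obtain ⟨φ, hφ, hsq⟩ := U32.exists_ringHom hF
  set Φ : Matrix (Fin 3) (Fin 3) R →+* Matrix (Fin 3) (Fin 3) F := φ.mapMatrix with hΦdef
  have hΦ : Function.Injective Φ := fun x y h => by
    ext i j
    all_goals first
      | exact congrArg QuadraticAlgebra.re (hφ (congrFun (congrFun h i) j))
      | exact congrArg QuadraticAlgebra.im (hφ (congrFun (congrFun h i) j))
  let mat : Cfsg.SU 3 F 2 → Matrix (Fin 3) (Fin 3) F := fun g =>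
    ((g : Matrix.SpecialLinearGroup (Fin 3) F) : Matrix (Fin 3) (Fin 3) F)
  have hmat : Function.Injective mat := fun g h e => Subtype.ext (Subtype.ext e)
  have hmm : ∀ g h, mat (g * h) = mat g * mat h := fun g h => rfl
  have hm1 : mat 1 = 1 := rfl
  have hex : ∀ M ∈ A :: B :: L, ∃ g : Cfsg.SU 3 F 2, mat g = Φ M := by
    intro M hM
    obtain ⟨hu, hd⟩ := good M hM
    have hu' : Mᵀ * M.map (fun x => x * x) = 1 := of_decide_eq_true hu
    have h1 : (Φ M)ᵀ * (Φ M).map (fun x => x ^ 2) = 1 := by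
      have h2 : (Φ M).map (fun x => x ^ 2) = Φ (M.map fun x => x * x) := by
        ext i j; exact hsq _
      have h3 : (Φ M)ᵀ = Φ Mᵀ := rfl
      rw [h2, h3, ← map_mul, hu', map_one]
    have hd' : (Φ M).det = 1 := by
      rw [hΦdef, ← RingHom.map_det]
      have : M.det = 1 := by rw [Matrix.det_fin_three]; exact hd
      rw [this, map_one]
    refine ⟨⟨⟨Φ M, hd'⟩, fun u v => ?_⟩, rfl⟩
    show Cfsg.hermForm 3 F 2 (Φ M *ᵥ u) (Φ M *ᵥ v) = Cfsg.hermForm 3 F 2 u v
    have hconj : (fun x => (Φ M *ᵥ v) x ^ 2) = (Φ M).map (fun x => x ^ 2) *ᵥ fun x => v x ^ 2 := by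
      funext x
      simp only [Matrix.mulVec, dotProduct, Matrix.map_apply, Unitary.sum_pow_q hF', mul_pow]
    show (Φ M *ᵥ u) ⬝ᵥ (fun x => (Φ M *ᵥ v) x ^ 2) = u ⬝ᵥ fun x => v x ^ 2
    rw [hconj, Matrix.dotProduct_mulVec, Matrix.vecMul_mulVec, h1, Matrix.vecMul_one]
  obtain ⟨fX, fC, fX3, fC3, fdX, fdC, fZX, fZC, fZ1, fcomm⟩ := facts
  obtain ⟨gA, hA⟩ := hex A List.mem_cons_self
  obtain ⟨gB, hB⟩ := hex B (List.mem_cons_of_mem _ List.mem_cons_self)
  obtain ⟨gX, hX⟩ := hex X (List.mem_cons_of_mem _ (List.mem_cons_of_mem _ fX))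
  obtain ⟨gC, hC⟩ := hex C (List.mem_cons_of_mem _ (List.mem_cons_of_mem _ fC))
  have hA4 : gA * gA * gA * gA = 1 := hmat (by simp only [hmm, hA, ← map_mul, rels.1, map_one, hm1])
  have hB4 : gB * gB * gB * gB = 1 := hmat (by simp only [hmm, hB, ← map_mul, rels.2.1, map_one, hm1])
  have hAi : gA⁻¹ = gA * gA * gA := inv_eq_of_mul_eq_one_left hA4
  have hBi : gB⁻¹ = gB * gB * gB := inv_eq_of_mul_eq_one_left hB4
  have hX3 : gX * gX * gX = 1 := hmat (by simp only [hmm, hX, ← map_mul, fX3, map_one, hm1])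
  have hC3 : gC * gC * gC = 1 := hmat (by simp only [hmm, hC, ← map_mul, fC3, map_one, hm1])
  have hXi : gX⁻¹ = gX * gX := inv_eq_of_mul_eq_one_left hX3
  have hCi : gC⁻¹ = gC * gC := inv_eq_of_mul_eq_one_left hC3
  set gD := gA * gA with hgD
  have hD : mat gD = Φ (A * A) := by rw [hgD, hmm, hA, map_mul]
  have hz : mat (gC⁻¹ * gX⁻¹ * gC * gX) = Φ Zm := by
    simp only [hCi, hXi, hmm, hX, hC, Zm, map_mul]
  have R54 : Order54.Rel gD gX gC := by
    refine ⟨?_, ?_, ?_, ?_, ?_, ?_, ?_⟩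
    · rw [pow_two, hgD, ← mul_assoc]; exact hA4
    · simpa [pow_succ] using hX3
    · simpa [pow_succ] using hC3
    · refine hmat ?_
      rw [hXi]; simp only [hmm, hD, hX, ← map_mul, fdX]
    · refine hmat ?_
      rw [hCi]; simp only [hmm, hD, hC, ← map_mul, fdC]
    · exact hmat (by rw [hmm, hmm gX, hz, hX, ← map_mul, ← map_mul, fZX])
    · exact hmat (by rw [hmm, hmm gC, hz, hC, ← map_mul, ← map_mul, fZC])
  let E : Subgroup (Cfsg.SU 3 F 2) :=
    { carrier := {g | ∃ x ∈ L, mat g = Φ x}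
      one_mem' := ⟨1, U32.one_mem, by rw [hm1, map_one]⟩
      mul_mem' := by
        rintro g h ⟨x, hx, hg⟩ ⟨y, hy, hh⟩
        exact ⟨x * y, U32.mul_mem x hx y hy, by rw [hmm, hg, hh, map_mul]⟩
      inv_mem' := by
        rintro g ⟨x, hx, hg⟩
        obtain ⟨y, hy, hxy⟩ := U32.inv_mem x hx
        obtain ⟨h, hh⟩ := hex y (List.mem_cons_of_mem _ (List.mem_cons_of_mem _ hy))
        have : g * h = 1 := hmat (by rw [hmm, hg, hh, ← map_mul, hxy, map_one, hm1])
        exact ⟨y, hy, by rw [inv_eq_of_mul_eq_one_right this, hh]⟩ }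
  have hDE : gD ∉ E := by
    rintro ⟨x, hx, h⟩
    rw [hD] at h
    exact rels.2.2.1 (hΦ h ▸ hx)
  have hnc : ¬ Commute gX gC := by
    intro h
    refine fZ1 (hΦ ?_)
    rw [← hz, map_one, ← hm1, mul_assoc (gC⁻¹ * gX⁻¹), ← h.eq]
    congr 1
    group
  have hinj := R54.hom_injective E ⟨X, fX, hX⟩ ⟨C, fC, hC⟩ hDE hnc
  -- the generators lie in the derived group
  set K := commutator (Cfsg.SU 3 F 2)
  have hcm : ∀ a b : Cfsg.SU 3 F 2, a * b * a⁻¹ * b⁻¹ ∈ K := fun a b => by
    rw [← commutatorElement_def]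
    exact Subgroup.commutator_mem_commutator (Subgroup.mem_top a) (Subgroup.mem_top b)
  have hdi : gD⁻¹ = gD := inv_eq_of_mul_eq_one_left (by rw [← pow_two]; exact R54.hd)
  have hXK : gX ∈ K := by
    have := hcm gD gX
    rw [hdi, R54.hdx, hXi, ← mul_assoc, hX3, one_mul] at this
    exact this
  have hCK : gC ∈ K := by
    have := hcm gD gC
    rw [hdi, R54.hdy, hCi, ← mul_assoc, hC3, one_mul] at this
    exact this
  have hDK : gD ∈ K := by
    obtain ⟨i, j, k, hl⟩ := span _ fcomm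
    have e : gB * gA * gB⁻¹ * gA⁻¹ * gD =
        gX ^ (i : ℕ) * gC ^ (j : ℕ) * (gC⁻¹ * gX⁻¹ * gC * gX) ^ (k : ℕ) := by
      have hpow : ∀ (g : Cfsg.SU 3 F 2) (M : Matrix (Fin 3) (Fin 3) R), mat g = Φ M →
          ∀ n : ℕ, mat (g ^ n) = Φ (M ^ n) := fun g M h n => by
        induction n with
        | zero => rw [pow_zero, pow_zero, hm1, map_one]
        | succ n ih => rw [pow_succ, pow_succ, hmm, ih, h, map_mul]
      refine hmat ?_
      rw [hBi, hAi]
      simp only [hmm, hA, hB, hD, hpow _ _ hX, hpow _ _ hC, hpow _ _ hz, ← map_mul]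
      rw [hl]
    rw [← inv_mul_cancel_left (gB * gA * gB⁻¹ * gA⁻¹) gD, e]
    exact mul_mem (inv_mem (hcm _ _)) (mul_mem (mul_mem (pow_mem hXK _) (pow_mem hCK _))
      (pow_mem (mul_mem (mul_mem (mul_mem (inv_mem hCK) (inv_mem hXK)) hCK) hXK) _))
  have hrange : R54.hom.range = K := by
    refine Subgroup.eq_of_le_of_card_ge ?_ ?_
    · intro g hg
      refine (Subgroup.closure_le K).2 ?_ (R54.mem_closure_of_mem_range hg)
      rintro u (rfl | rfl | rfl)
      exacts [hDK, hXK, hCK]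
    · rw [← Nat.card_congr (MonoidHom.ofInjective hinj).toEquiv, Order54.card]
      exact commutator_card_le hF
  exact ⟨(MonoidHom.ofInjective hinj).trans (MulEquiv.subgroupCongr hrange)⟩

end Cfsg.Agent.Sporadic96.SU32
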