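import Cfsg.Agent.Lib.FischerSpace.Classes
import Cfsg.Agent.Sporadic96.Order54

/-!
# A 3-group extended by an inverting involution, acting on an elementary abelian 2-group

If the involution centralizes the fixed points of every nontrivial element it inverts, the 3-group
has order 3 or is extraspecial of order 27.
-/

set_option autoImplicit false

namespace Cfsg.Agent.Sporadic96.WidthOneModule

variable {X V : Type*} [Group X] [CommGroup V]

theorem nine_identity (hV : ∀ v : V, v * v = 1) (v a a' b b' c c' e e' : V) :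
    v * a * a' * (v * b * b') * (v * c * c') * (v * e * e') *
      (v * a * a' * b * b' * c * c' * e * e') = v := by
  have : v * a * a' * (v * b * b') * (v * c * c') * (v * e * e') *
      (v * a * a' * b * b' * c * c' * e * e') =
      v * ((v * v) * (v * v) * (a * a) * (a' * a') * (b * b) * (b' * b') * (c * c) * (c' * c') *
        (e * e) * (e' * e')) := by ac_rfl
  rw [this]
  simp only [hV, mul_one]

/-- A vector on which `⟨x, y⟩` acts as a quotient of `3²` is a product of vectors fixed by one of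
`x`, `y`, `x y x`, `x y² x`. -/
theorem fix_of_four (hV : ∀ v : V, v * v = 1) (ρ : X →* MulAut V) {x y : X} (hx : x ^ 3 = 1)
    (hy : y ^ 3 = 1) (hzx : Commute (y⁻¹ * x⁻¹ * y * x) x) (hzy : Commute (y⁻¹ * x⁻¹ * y * x) y)
    {v : V} (hv : ρ (y⁻¹ * x⁻¹ * y * x) v = v) (F : V → Prop)
    (hmul : ∀ u u', F u → F u' → F (u * u'))
    (h1 : ∀ u, ρ x u = u → F u) (h2 : ∀ u, ρ y u = u → F u)
    (h3 : ∀ u, ρ (x * y * x) u = u → F u) (h4 : ∀ u, ρ (x * (y * y) * x) u = u → F u) : F v := by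
  set A := ρ x with hA
  set B := ρ y with hB
  set Z := ρ (y⁻¹ * x⁻¹ * y * x) with hZ
  have hA3 : ∀ u, A (A (A u)) = u := fun u => by
    show ρ x (ρ x (ρ x u)) = u
    rw [← MulAut.mul_apply, ← MulAut.mul_apply, ← map_mul, ← map_mul,
      show x * x * x = x ^ 3 by simp [pow_succ], hx, map_one, MulAut.one_apply]
  have hB3 : ∀ u, B (B (B u)) = u := fun u => by
    show ρ y (ρ y (ρ y u)) = u
    rw [← MulAut.mul_apply, ← MulAut.mul_apply, ← map_mul, ← map_mul,
      show y * y * y = y ^ 3 by simp [pow_succ], hy, map_one, MulAut.one_apply]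
  have hC : ∀ u, Z u = u → B (A u) = A (B u) := fun u hu => by
    show ρ y (ρ x u) = ρ x (ρ y u)
    rw [← MulAut.mul_apply, ← MulAut.mul_apply, ← map_mul, ← map_mul,
      show y * x = x * y * (y⁻¹ * x⁻¹ * y * x) by group, map_mul, MulAut.mul_apply]
    exact congrArg _ hu
  have hWA : ∀ u, Z u = u → Z (A u) = A u := fun u hu => by
    show ρ _ (ρ x u) = ρ x u
    rw [← MulAut.mul_apply, ← map_mul, hzx.eq, map_mul, MulAut.mul_apply]
    exact congrArg _ hu
  have hWB : ∀ u, Z u = u → Z (B u) = B u := fun u hu => by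
    show ρ _ (ρ y u) = ρ y u
    rw [← MulAut.mul_apply, ← map_mul, hzy.eq, map_mul, MulAut.mul_apply]
    exact congrArg _ hu
  set a := A v; set a' := A a
  set b := B v; set b' := B b
  have wb := hWB v hv
  have wb' := hWB b wb
  have wa := hWA v hv
  set c := A (A b)
  set c' := A b'
  set e := A (A b')
  set e' := A b
  have cb : B (A b) = A b' := hC b wb
  have cb' : B (A b') = A v := by rw [hC b' wb', show B b' = v from hB3 v]
  have caab : B (A (A b)) = A (A b') := by rw [hC (A b) (hWA b wb), hC b wb]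
  have caab' : B (A (A b')) = A (A v) := by
    rw [hC (A b') (hWA b' wb'), hC b' wb', show B b' = v from hB3 v]
  have cA : B (A v) = A b := hC v hv
  have e3 : ∀ u, ρ (x * y * x) u = A (B (A u)) := fun u => by
    rw [map_mul, map_mul, MulAut.mul_apply, MulAut.mul_apply]
  have e4 : ∀ u, ρ (x * (y * y) * x) u = A (B (B (A u))) := fun u => by
    rw [map_mul, map_mul, map_mul, MulAut.mul_apply, MulAut.mul_apply, MulAut.mul_apply]
  rw [← nine_identity hV v a a' b b' c c' e e']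
  refine hmul _ _ (hmul _ _ (hmul _ _ (hmul _ _ (h1 _ ?_) (h2 _ ?_)) (h3 _ ?_)) (h4 _ ?_)) (h1 _ ?_)
  · rw [map_mul, map_mul, show ρ x a' = v from hA3 v]
    show a * a' * v = v * a * a'
    ac_rfl
  · rw [map_mul, map_mul, show ρ y b' = v from hB3 v]
    show b * b' * v = v * b * b'
    ac_rfl
  · rw [map_mul, map_mul, e3, e3, e3]
    rw [show A (B (A v)) = c by rw [cA]]
    rw [show A (B (A c)) = c' by rw [show A c = b from hA3 b]]
    rw [show A (B (A c')) = v by rw [show A c' = A (A b') from rfl, caab']; exact hA3 v]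
    ac_rfl
  · rw [map_mul, map_mul, e4, e4, e4]
    rw [show A (B (B (A v))) = e by rw [cA, cb]]
    rw [show A (B (B (A e))) = e' by rw [show A e = b' from hA3 b', show B b' = v from hB3 v]]
    rw [show A (B (B (A e'))) = v by rw [caab, caab']; exact hA3 v]
    ac_rfl
  · rw [map_mul, map_mul, map_mul, map_mul, map_mul, map_mul, map_mul, map_mul,
      show ρ x a' = v from hA3 v, show ρ x c = b from hA3 b, show ρ x e = b' from hA3 b']
    show a * a' * v * e' * c' * b * e * b' * c = v * a * a' * b * b' * c * c' * e * e'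
    ac_rfl

theorem inverted_central [Finite X] {d u : X} {P : Subgroup X} (hP : IsPGroup 3 P) (hu : u ∈ P)
    (h1 : d * u * d = u) (h2 : d * u * d = u⁻¹) : u = 1 := by
  obtain ⟨k, hk⟩ := hP ⟨u, hu⟩
  have hk' : u ^ 3 ^ k = 1 := congrArg Subtype.val hk
  have : u ^ 2 = 1 := by rw [pow_two, mul_eq_one_iff_eq_inv, ← h2, h1]
  exact FischerSpace.eq_one_of_pow this hk' (by norm_num)

/-- The hypotheses. -/
structure Hyp (ρ : X →* MulAut V) (d : X) (P : Subgroup X) : Prop where
  inj : Function.Injective ρ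
  sq : ∀ v : V, v * v = 1
  normal : P.Normal
  pgroup : IsPGroup 3 P
  dd : d * d = 1
  dP : d ∉ P
  cover : ∀ g : X, g ∈ P ∨ g * d ∈ P
  cube : ∀ u ∈ P, d * u * d = u⁻¹ → u ^ 3 = 1
  gen : P ≤ Subgroup.closure {u | u ∈ P ∧ d * u * d = u⁻¹}
  ne : P ≠ ⊥
  fix : ∀ u ∈ P, d * u * d = u⁻¹ → u ≠ 1 → ∀ v, ρ u v = v → ρ d v = v

namespace Hyp

variable {ρ : X →* MulAut V} {d : X} {P : Subgroup X}

theorem d_inv (h : Hyp ρ d P) : d⁻¹ = d := inv_eq_of_mul_eq_one_left h.dd

theorem conjP (h : Hyp ρ d P) {u : X} (hu : u ∈ P) : d * u * d ∈ P := by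
  have := h.normal.conj_mem u hu d
  rwa [h.d_inv] at this

theorem dinv (h : Hyp ρ d P) (u : X) : d * u⁻¹ * d = (d * u * d)⁻¹ := by
  simp only [mul_inv_rev, h.d_inv, mul_assoc]

theorem dmul (h : Hyp ρ d P) (a b : X) : d * (a * b) * d = d * a * d * (d * b * d) := by
  calc d * (a * b) * d = d * a * (d * d) * b * d := by rw [h.dd]; simp [mul_assoc]
    _ = _ := by simp only [mul_assoc]

theorem dd_cancel (h : Hyp ρ d P) (u : X) : d * (d * u * d) * d = u := by
  calc d * (d * u * d) * d = (d * d) * u * (d * d) := by simp only [mul_assoc]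
    _ = u := by rw [h.dd, one_mul, mul_one]

theorem dcomm (h : Hyp ρ d P) (a b : X) : d * (a * b * a⁻¹ * b⁻¹) * d =
    d * a * d * (d * b * d) * (d * a * d)⁻¹ * (d * b * d)⁻¹ := by
  rw [h.dmul, h.dmul, h.dmul, h.dinv, h.dinv]

theorem inv_xyx (h : Hyp ρ d P) {x y : X} (hx : d * x * d = x⁻¹) (hy : d * y * d = y⁻¹) :
    d * (x * y * x) * d = (x * y * x)⁻¹ := by
  rw [h.dmul, h.dmul, hx, hy]; simp only [mul_inv_rev, mul_assoc]

theorem inv_sq (h : Hyp ρ d P) {y : X} (hy : d * y * d = y⁻¹) : d * (y * y) * d = (y * y)⁻¹ := by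
  rw [h.dmul, hy, mul_inv_rev]

theorem false_of_all_fixed (h : Hyp ρ d P) (hall : ∀ v, ρ d v = v) : False := by
  apply h.dP
  have : d = 1 := h.inj (by rw [map_one]; exact MulEquiv.ext hall)
  rw [this]; exact one_mem P

theorem commuting_pair (h : Hyp ρ d P) {x y : X} (hxP : x ∈ P) (hx : d * x * d = x⁻¹) (hyP : y ∈ P)
    (hy : d * y * d = y⁻¹) (hx1 : x ≠ 1) (hc : Commute x y) : y ∈ Subgroup.zpowers x := by
  by_contra hn
  refine h.false_of_all_fixed fun v => ?_
  have x3 := h.cube x hxP hx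
  have y3 := h.cube y hyP hy
  have hz : y⁻¹ * x⁻¹ * y * x = 1 := by
    rw [mul_assoc (y⁻¹ * x⁻¹), ← hc.eq]; group
  refine fix_of_four h.sq ρ x3 y3 (by rw [hz]; exact Commute.one_left _)
    (by rw [hz]; exact Commute.one_left _) (by rw [hz, map_one]; rfl) (fun v => ρ d v = v)
    (fun u u' hu hu' => by rw [map_mul, hu, hu']) (fun u => h.fix x hxP hx hx1 u)
    (fun u => h.fix y hyP hy (fun e => hn (e ▸ one_mem _)) u) (fun u => ?_) (fun u => ?_)
  · refine h.fix _ (mul_mem (mul_mem hxP hyP) hxP) ?_ ?_ u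
    · exact h.inv_xyx hx hy
    · intro e
      refine hn ?_
      have : y = x⁻¹ * x⁻¹ := by
        calc y = x⁻¹ * (x * y * x) * x⁻¹ := by group
          _ = x⁻¹ * x⁻¹ := by rw [e, mul_one]
      rw [this]
      exact mul_mem (inv_mem (Subgroup.mem_zpowers x)) (inv_mem (Subgroup.mem_zpowers x))
  · refine h.fix _ (mul_mem (mul_mem hxP (mul_mem hyP hyP)) hxP) ?_ ?_ u
    · exact h.inv_xyx hx (h.inv_sq hy)
    · intro e
      refine hn ?_
      have e2 : y * y = x⁻¹ * x⁻¹ := by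
        calc y * y = x⁻¹ * (x * (y * y) * x) * x⁻¹ := by group
          _ = x⁻¹ * x⁻¹ := by rw [e, mul_one]
      have : y = (y * y) * (y * y) := by
        calc y = y ^ 3 * y := by rw [y3, one_mul]
          _ = _ := by simp only [pow_succ, pow_zero, one_mul, mul_assoc]
      rw [this, e2]
      have hm := mul_mem (inv_mem (Subgroup.mem_zpowers x)) (inv_mem (Subgroup.mem_zpowers x))
      exact mul_mem hm hm

theorem rel_of (h : Hyp ρ d P) {x y : X} (hxP : x ∈ P) (hx : d * x * d = x⁻¹) (hyP : y ∈ P)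
    (hy : d * y * d = y⁻¹) (hzx : Commute (y⁻¹ * x⁻¹ * y * x) x)
    (hzy : Commute (y⁻¹ * x⁻¹ * y * x) y) : Order54.Rel d x y :=
  ⟨by rw [pow_two]; exact h.dd, h.cube x hxP hx, h.cube y hyP hy, hx, hy, hzx, hzy⟩

theorem zp_cases {x g : X} (hx : x ^ 3 = 1) (hg : g ∈ Subgroup.zpowers x) : ∃ m : ℕ, g = x ^ m := by
  obtain ⟨k, rfl⟩ := hg
  refine ⟨(k % 3).toNat, ?_⟩
  show x ^ k = _
  rw [← zpow_natCast, Int.toNat_of_nonneg (Int.emod_nonneg k (by norm_num))]
  conv_lhs => rw [← Int.mul_ediv_add_emod k 3, zpow_add, zpow_mul]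
  rw [show ((x : X) ^ (3 : ℤ)) = 1 by exact_mod_cast hx, one_zpow, one_mul]

/-- Elements centralizing `P` that `d` fixes are central. -/
theorem central (h : Hyp ρ d P) {w : X} (hP : ∀ q ∈ P, Commute w q) (hd : d * w * d = w) :
    ∀ g : X, Commute w g := by
  have hcd : Commute w d := by
    have e : d * w * d * d = w * d := by rw [hd]
    rw [mul_assoc (d * w), h.dd, mul_one] at e
    exact e.symm
  intro g
  rcases h.cover g with hg | hg
  · exact hP g hg
  · have e : g = g * d * d := by rw [mul_assoc, h.dd, mul_one]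
    rw [e]
    exact (hP _ hg).mul_right hcd

/-- Either the group has order six or it is generated by a triple with the relations of `3^{1+2}:2`. -/
theorem main [Finite X] (h : Hyp ρ d P) :
    (Nat.card X = 6 ∧ ∃ u ∈ P, u ≠ 1 ∧ d * u * d = u⁻¹) ∨
    ∃ x y : X, Order54.Rel d x y ∧ x ∈ P ∧ y ∈ P ∧ ¬ Commute x y ∧
      Subgroup.closure ({d, x, y} : Set X) = ⊤ := by
  haveI : Fact (Nat.Prime 3) := ⟨Nat.prime_three⟩
  haveI := h.normal
  obtain ⟨u₀, hu₀P, hu₀, hu₀1⟩ : ∃ u ∈ P, d * u * d = u⁻¹ ∧ u ≠ 1 := by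
    by_contra hcon
    push Not at hcon
    refine h.ne (le_bot_iff.1 (h.gen.trans ((Subgroup.closure_le _).2 ?_)))
    rintro u ⟨hu, hu'⟩
    exact hcon u hu hu'
  by_cases hZ : ∃ z ∈ P, d * z * d = z⁻¹ ∧ z ≠ 1 ∧ ∀ q ∈ P, Commute z q
  · obtain ⟨z, hzP, hz, hz1, hzc⟩ := hZ
    left
    refine ⟨?_, u₀, hu₀P, hu₀1, hu₀⟩
    have hPz : P = Subgroup.zpowers z := le_antisymm
      (h.gen.trans ((Subgroup.closure_le _).2 fun u hu =>
        h.commuting_pair hzP hz hu.1 hu.2 hz1 (hzc u hu.1)))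
      (Subgroup.zpowers_le.2 hzP)
    have h3 : orderOf z = 3 := orderOf_eq_prime (h.cube z hzP hz) hz1
    have hc3 : Nat.card P = 3 := by rw [hPz, Nat.card_zpowers, h3]
    have hi : P.index = 2 := by
      rw [Subgroup.index_eq_two_iff]
      refine ⟨d, fun b => ?_⟩
      rcases h.cover b with hb | hb
      · refine Or.inr ⟨hb, fun hbd => h.dP ?_⟩
        have := mul_mem (inv_mem hb) hbd
        rwa [inv_mul_cancel_left] at this
      · refine Or.inl ⟨hb, fun hb' => h.dP ?_⟩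
        have := mul_mem (inv_mem hb') hb
        rwa [inv_mul_cancel_left] at this
    rw [← P.card_mul_index, hc3, hi]
  push Not at hZ
  right
  -- `d` fixes the centre of `P`
  have hfixZ : ∀ c ∈ P, (∀ q ∈ P, Commute c q) → d * c * d = c := by
    intro c hc hcc
    set u := c⁻¹ * (d * c * d) with hu
    have hcd : ∀ q ∈ P, Commute (d * c * d) q := by
      intro q hq
      have := (hcc _ (h.conjP hq)).map (MulAut.conj d).toMonoidHom
      simpa [h.d_inv, h.dd_cancel] using this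
    have huP : u ∈ P := mul_mem (inv_mem hc) (h.conjP hc)
    have huI : d * u * d = u⁻¹ := by
      rw [hu, h.dmul, h.dinv, h.dd_cancel, mul_inv_rev c⁻¹, inv_inv]
    by_cases hu1 : u = 1
    · exact (inv_mul_eq_one.1 hu1).symm
    · exfalso
      obtain ⟨q, hq, hnq⟩ := hZ u huP huI hu1
      exact hnq (((hcc q hq).inv_left).mul_left (hcd q hq))
  let ZP : X → Prop := fun w => w ∈ P ∧ ∀ q ∈ P, Commute w q
  have ZPcen : ∀ w, ZP w → ∀ g, Commute w g := fun w hw => h.central hw.2 (hfixZ w hw.1 hw.2)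
  -- an element of the second centre
  obtain ⟨c, hcP, hcn, hc2⟩ : ∃ c ∈ P, ¬ ZP c ∧ ∀ q ∈ P, ZP (c * q * c⁻¹ * q⁻¹) := by
    let N := Subgroup.center P
    have hNtop : N ≠ ⊤ := by
      intro e
      obtain ⟨q, hq, hnq⟩ := hZ u₀ hu₀P hu₀ hu₀1
      have : (⟨u₀, hu₀P⟩ : P) ∈ N := by rw [e]; exact Subgroup.mem_top _
      exact hnq (congrArg Subtype.val (Subgroup.mem_center_iff.1 this ⟨q, hq⟩)).symm
    haveI : Nontrivial (P ⧸ N) := QuotientGroup.nontrivial_iff.2 hNtop
    haveI := (h.pgroup.to_quotient N).center_nontrivial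
    obtain ⟨⟨t, ht⟩, htne⟩ := exists_ne (1 : Subgroup.center (P ⧸ N))
    obtain ⟨c, rfl⟩ := QuotientGroup.mk_surjective t
    refine ⟨c, c.2, fun hz => htne (Subtype.ext ((QuotientGroup.eq_one_iff c).2
      (Subgroup.mem_center_iff.2 fun q => Subtype.ext (hz.2 q q.2).eq.symm))), fun q hq => ?_⟩
    have hm : c * ⟨q, hq⟩ * c⁻¹ * (⟨q, hq⟩ : P)⁻¹ ∈ N := by
      rw [← QuotientGroup.eq_one_iff]
      simp only [QuotientGroup.mk_mul, QuotientGroup.mk_inv]
      rw [← Subgroup.mem_center_iff.1 ht, mul_inv_cancel_right, mul_inv_cancel]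
    exact ⟨mul_mem (mul_mem (mul_mem c.2 hq) (inv_mem c.2)) (inv_mem hq), fun r hr =>
      (congrArg Subtype.val (Subgroup.mem_center_iff.1 hm ⟨r, hr⟩)).symm⟩
  have ZPmul : ∀ a b, ZP a → ZP b → ZP (a * b) := fun a b ha hb =>
    ⟨mul_mem ha.1 hb.1, fun q hq => (ha.2 q hq).mul_left (hb.2 q hq)⟩
  have ZPinv : ∀ a, ZP a → ZP a⁻¹ := fun a ha => ⟨inv_mem ha.1, fun q hq => (ha.2 q hq).inv_left⟩
  set x := c⁻¹ * (d * c * d) with hxdef
  have hxP : x ∈ P := mul_mem (inv_mem hcP) (h.conjP hcP)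
  have hx : d * x * d = x⁻¹ := by
    rw [hxdef, h.dmul, h.dinv, h.dd_cancel, mul_inv_rev c⁻¹, inv_inv]
  have hx2 : ∀ q ∈ P, ZP (x * q * x⁻¹ * q⁻¹) := by
    intro q hq
    have h1 : ∀ r ∈ P, ZP (c⁻¹ * r * c * r⁻¹) := fun r hr => by
      have hm := hc2 (c⁻¹ * r * c) (mul_mem (mul_mem (inv_mem hcP) hr) hcP)
      have e : c⁻¹ * r * c * r⁻¹ = (c * (c⁻¹ * r * c) * c⁻¹ * (c⁻¹ * r * c)⁻¹)⁻¹ := by group
      rw [e]
      exact ZPinv _ hm
    have h2 : ZP (d * c * d * q * (d * c * d)⁻¹ * q⁻¹) := by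
      have hm := hc2 _ (h.conjP hq)
      have e : d * (c * (d * q * d) * c⁻¹ * (d * q * d)⁻¹) * d =
          d * c * d * q * (d * c * d)⁻¹ * q⁻¹ := by
        rw [h.dcomm, h.dd_cancel]
      rw [← e]
      have hw := ZPcen _ hm d
      rw [show ∀ w : X, Commute w d → d * w * d = w from fun w hw => by
        rw [← hw.eq, mul_assoc, h.dd, mul_one] ] <;> assumption
    set e := d * c * d
    have he := h1 (e * q * e⁻¹) (mul_mem (mul_mem (h.conjP hcP) hq) (inv_mem (h.conjP hcP)))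
    rw [show x * q * x⁻¹ * q⁻¹ =
      (c⁻¹ * (e * q * e⁻¹) * c * (e * q * e⁻¹)⁻¹) * (e * q * e⁻¹ * q⁻¹) by rw [hxdef]; group]
    exact ZPmul _ _ he h2
  have hx1 : x ≠ 1 := by
    intro e
    have hdc : d * c * d = c := (inv_mul_eq_one.1 e).symm
    -- then `c` commutes with every inverted element
    refine hcn ⟨hcP, fun q hq => ?_⟩
    suffices P ≤ Subgroup.centralizer {c} from
      (Subgroup.mem_centralizer_singleton_iff.1 (this hq)).symm
    refine h.gen.trans ((Subgroup.closure_le _).2 ?_)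
    rintro r ⟨hr, hrI⟩
    set w := c * r * c⁻¹ * r⁻¹ with hw
    have hwZ := hc2 r hr
    have e1 : d * w * d = c * r⁻¹ * c⁻¹ * r := by
      rw [hw, h.dmul, h.dmul, h.dmul, h.dinv, h.dinv, hdc, hrI, inv_inv]
    rw [hfixZ w hwZ.1 hwZ.2] at e1
    have e2 : c * r⁻¹ * c⁻¹ * r = r⁻¹ * w⁻¹ * r := by rw [hw]; group
    have e3 : w = w⁻¹ := by
      rw [e2, mul_assoc, ((hwZ.2 r hr).inv_left).eq, inv_mul_cancel_left] at e1
      exact e1
    have hw1 : w = 1 := inverted_central h.pgroup hwZ.1 (hfixZ w hwZ.1 hwZ.2)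
      ((hfixZ w hwZ.1 hwZ.2).trans e3)
    refine Subgroup.mem_centralizer_singleton_iff.2 ?_
    have := mul_inv_eq_one.1 hw1
    exact ((mul_inv_eq_iff_eq_mul.1 this)).symm
  -- the commutator map
  let com : P →* X := MonoidHom.mk' (fun q => x * q * x⁻¹ * (q : X)⁻¹) (by
    rintro ⟨q, hq⟩ ⟨r, hr⟩
    show x * (q * r) * x⁻¹ * (q * r)⁻¹ = x * q * x⁻¹ * q⁻¹ * (x * r * x⁻¹ * r⁻¹)
    have hc := (hx2 r hr).2 q hq
    calc x * (q * r) * x⁻¹ * (q * r)⁻¹
        = x * q * x⁻¹ * ((x * r * x⁻¹ * r⁻¹) * q⁻¹) := by group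
      _ = _ := by rw [hc.inv_right.eq]; simp only [mul_assoc])
  have com_cen : ∀ q : P, ∀ g : X, Commute (com q) g := fun q => ZPcen _ (hx2 q q.2)
  have x3 := h.cube x hxP hx
  have com_cube : ∀ q : P, com q ^ 3 = 1 := by
    intro q
    have hpow : ∀ n : ℕ, x ^ n * q * (x ^ n)⁻¹ = com q ^ n * q := by
      intro n
      induction n with
      | zero => simp
      | succ n ih =>
        calc x ^ (n + 1) * q * (x ^ (n + 1))⁻¹ = x * (x ^ n * q * (x ^ n)⁻¹) * x⁻¹ := by
              rw [pow_succ']; simp only [mul_inv_rev, mul_assoc]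
          _ = x * com q ^ n * q * x⁻¹ := by rw [ih]; simp only [mul_assoc]
          _ = com q ^ n * (x * q * x⁻¹) := by
            rw [← ((com_cen q x).pow_left n).eq]; simp only [mul_assoc]
          _ = com q ^ (n + 1) * q := by
            rw [pow_succ, mul_assoc (com q ^ n)]
            congr 1
            show x * q * x⁻¹ = x * q * x⁻¹ * (q : X)⁻¹ * q
            group
    have := hpow 3
    rw [x3, one_mul, inv_one, mul_one, right_eq_mul] at this
    exact this
  have com_sym : ∀ q : P, ∃ u : P, d * (u : X) * d = (u : X)⁻¹ ∧ com u = com q := by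
    intro q
    let q' : P := ⟨d * q * d, h.conjP q.2⟩
    refine ⟨q' * q⁻¹, ?_, ?_⟩
    · show d * (d * q * d * (q : X)⁻¹) * d = (d * q * d * (q : X)⁻¹)⁻¹
      rw [h.dmul, h.dd_cancel, h.dinv, mul_inv_rev (d * (q : X) * d), inv_inv]
    · have hq' : com q' = (com q)⁻¹ := by
        set w := com q' with hw
        have hwf : d * w * d = w := by
          rw [← (com_cen q' d).eq, mul_assoc, h.dd, mul_one]
        have e1 : d * w * d = x⁻¹ * q * x * (q : X)⁻¹ := by
          show d * (x * (d * q * d) * x⁻¹ * (d * q * d)⁻¹) * d = _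
          rw [h.dmul, h.dmul, h.dmul, h.dinv, h.dinv, hx, h.dd_cancel, inv_inv]
        rw [hwf] at e1
        rw [e1]
        have hc := (com_cen q x).inv_left
        calc x⁻¹ * q * x * (q : X)⁻¹ = x⁻¹ * (com q)⁻¹ * x := by
              show _ = x⁻¹ * (x * q * x⁻¹ * (q : X)⁻¹)⁻¹ * x
              group
          _ = (com q)⁻¹ := by rw [mul_assoc, hc.eq, inv_mul_cancel_left]
      rw [map_mul, map_inv, hq', ← mul_inv_rev, ← pow_two]
      exact inv_eq_of_mul_eq_one_left (by rw [← pow_succ']; exact com_cube q)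
  -- fixed points of nontrivial values of the commutator map
  have hW : ∀ q : P, com q ≠ 1 → ∀ v, ρ (com q) v = v → ρ d v = v := by
    intro q hq v hv
    obtain ⟨u, huI, hue⟩ := com_sym q
    rw [← hue] at hq hv
    have hz : (u : X)⁻¹ * x⁻¹ * u * x = (com u)⁻¹ := by
      calc (u : X)⁻¹ * x⁻¹ * u * x = ((u : X)⁻¹ * x⁻¹) * (com u)⁻¹ * (x * u) := by
            show _ = _ * (x * u * x⁻¹ * (u : X)⁻¹)⁻¹ * _
            group
        _ = (com u)⁻¹ := by rw [mul_assoc, (com_cen u _).inv_left.eq]; group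
    have hfix := fun v' => h.fix x hxP hx hx1 v'
    refine fix_of_four h.sq ρ x3 (h.cube u u.2 huI) (by rw [hz]; exact (com_cen u x).inv_left)
      (by rw [hz]; exact (com_cen u _).inv_left)
      (by rw [hz, map_inv]; exact (MulEquiv.symm_apply_eq _).2 hv.symm) (fun v => ρ d v = v)
      (fun a b ha hb => by rw [map_mul, ha, hb]) hfix
      (fun a => h.fix u u.2 huI (fun e => hq (by
        rw [show u = 1 from Subtype.ext e, map_one])) a) (fun a => ?_) (fun a => ?_)
    · refine h.fix _ (mul_mem (mul_mem hxP u.2) hxP) ?_ (fun e => hq ?_) a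
      · exact h.inv_xyx hx huI
      · have : (u : X) = x⁻¹ * x⁻¹ := by
          calc (u : X) = x⁻¹ * (x * u * x) * x⁻¹ := by group
            _ = _ := by rw [e, mul_one]
        show x * u * x⁻¹ * (u : X)⁻¹ = 1
        rw [this]; group
    · refine h.fix _ (mul_mem (mul_mem hxP (mul_mem u.2 u.2)) hxP) ?_ (fun e => hq ?_) a
      · exact h.inv_xyx hx (h.inv_sq huI)
      · have e2 : (u : X) * u = x⁻¹ * x⁻¹ := by
          calc (u : X) * u = x⁻¹ * (x * ((u : X) * u) * x) * x⁻¹ := by group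
            _ = _ := by rw [e, mul_one]
        have : (u : X) = (u * u) * (u * u) := by
          calc (u : X) = (u : X) ^ 3 * u := by rw [h.cube u u.2 huI, one_mul]
            _ = _ := by simp only [pow_succ, pow_zero, one_mul, mul_assoc]
        show x * u * x⁻¹ * (u : X)⁻¹ = 1
        rw [this, e2]; group
  have hWall : ∀ q : P, com q ≠ 1 → ∀ v, ρ (com q) v = v → ∀ u ∈ P, ρ u v = v := by
    intro q hq v hv
    have hconj : ∀ g : X, ρ (g * d * g⁻¹) v = v := by
      intro g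
      have hv' : ρ (com q) (ρ g⁻¹ v) = ρ g⁻¹ v := by
        rw [← MulAut.mul_apply, ← map_mul, (com_cen q g⁻¹).eq, map_mul, MulAut.mul_apply, hv]
      rw [map_mul, map_mul, MulAut.mul_apply, MulAut.mul_apply, hW q hq _ hv', map_inv,
        MulAut.apply_inv_self]
    intro r hr
    let S : Subgroup X :=
      { carrier := {g | ρ g v = v}
        one_mem' := by simp
        mul_mem' := fun {a b} ha hb => by
          show ρ (a * b) v = v
          rw [map_mul, MulAut.mul_apply, hb, ha]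
        inv_mem' := fun {a} ha => by
          show ρ a⁻¹ v = v
          rw [map_inv]
          exact (MulEquiv.symm_apply_eq _).2 (show ρ a v = v from ha).symm }
    refine ((h.gen.trans ((Subgroup.closure_le S).2 ?_)) hr : r ∈ S)
    rintro p ⟨hp, hpI⟩
    have p3 := h.cube p hp hpI
    have hdp : d * p = p⁻¹ * d := by rw [← hpI, mul_assoc (d * p), h.dd, mul_one]
    have hpi : (p * p)⁻¹ = p := inv_eq_of_mul_eq_one_right (by rw [← p3]; simp [pow_succ])
    have e : p * p * d * (p * p)⁻¹ = p * d := by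
      rw [hpi, mul_assoc (p * p) d p, hdp, ← mul_assoc, mul_inv_cancel_right]
    have hpd : ρ (p * d) v = v := e ▸ hconj (p * p)
    rwa [map_mul, MulAut.mul_apply, hW q hq v hv] at hpd
  -- the inverted element not commuting with `x`
  obtain ⟨y, hyP, hy, hxy⟩ : ∃ y ∈ P, d * y * d = y⁻¹ ∧ ¬ Commute x y := by
    by_contra hcon
    push Not at hcon
    obtain ⟨q, hq, hnq⟩ := hZ x hxP hx hx1
    refine hnq (Subgroup.mem_centralizer_singleton_iff.1
      (((h.gen.trans ((Subgroup.closure_le (Subgroup.centralizer {x})).2 ?_)) hq))).symm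
    rintro r ⟨hr, hrI⟩
    exact Subgroup.mem_centralizer_singleton_iff.2 (hcon r hr hrI).eq.symm
  have hcom1 : ∀ q : P, com q = 1 ↔ Commute x (q : X) := fun q => by
    show x * q * x⁻¹ * (q : X)⁻¹ = 1 ↔ _
    rw [mul_inv_eq_one, mul_inv_eq_iff_eq_mul]
    rfl
  set y' : P := ⟨y, hyP⟩ with hy'
  set w := com y' with hwdef
  have hw1 : w ≠ 1 := fun e => hxy ((hcom1 y').1 e)
  -- the image of the commutator map is `⟨w⟩`
  have himg : ∀ q : P, com q ∈ Subgroup.zpowers w := by
    intro q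
    by_contra hn
    refine h.false_of_all_fixed fun v => ?_
    have hz : (com q)⁻¹ * w⁻¹ * com q * w = 1 := by
      rw [mul_assoc ((com q)⁻¹ * w⁻¹), (com_cen q w).eq]; group
    refine fix_of_four h.sq ρ (com_cube y') (com_cube q) (by rw [hz]; exact Commute.one_left _)
      (by rw [hz]; exact Commute.one_left _) (by rw [hz, map_one]; rfl) (fun v => ρ d v = v)
      (fun a b ha hb => by rw [map_mul, ha, hb]) (hW y' hw1)
      (hW q fun e => hn (e ▸ one_mem _)) (fun a => ?_) (fun a => ?_)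
    · rw [show w * com q * w = com (y' * q * y') by rw [map_mul, map_mul]]
      refine hW _ (fun e => hn ?_) a
      rw [map_mul, map_mul, ← hwdef] at e
      rw [show com q = w⁻¹ * (w * com q * w) * w⁻¹ by group, e, mul_one]
      exact mul_mem (inv_mem (Subgroup.mem_zpowers w)) (inv_mem (Subgroup.mem_zpowers w))
    · rw [show w * (com q * com q) * w = com (y' * (q * q) * y') by rw [map_mul, map_mul, map_mul]]
      refine hW _ (fun e => hn ?_) a
      rw [map_mul, map_mul, map_mul, ← hwdef] at e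
      have e2 : com q * com q ∈ Subgroup.zpowers w := by
        rw [show com q * com q = w⁻¹ * (w * (com q * com q) * w) * w⁻¹ by group, e, mul_one]
        exact mul_mem (inv_mem (Subgroup.mem_zpowers w)) (inv_mem (Subgroup.mem_zpowers w))
      have : com q = (com q * com q) * (com q * com q) := by
        calc com q = com q ^ 3 * com q := by rw [com_cube, one_mul]
          _ = _ := by simp only [pow_succ, pow_zero, one_mul, mul_assoc]
      rw [this]; exact mul_mem e2 e2
  have hz : y⁻¹ * x⁻¹ * y * x = w⁻¹ := by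
    calc y⁻¹ * x⁻¹ * y * x = (y⁻¹ * x⁻¹) * w⁻¹ * (x * y) := by
          rw [show w = x * y * x⁻¹ * y⁻¹ from rfl]
          group
      _ = w⁻¹ := by
        have hwc : Commute w⁻¹ (x * y) := (com_cen y' _).inv_left
        rw [mul_assoc, hwc.eq]; group
  have R : Order54.Rel d x y := h.rel_of hxP hx hyP hy (by rw [hz]; exact (com_cen y' x).inv_left)
    (by rw [hz]; exact (com_cen y' y).inv_left)
  refine ⟨x, y, R, hxP, hyP, hxy, ?_⟩
  set K := Subgroup.closure ({d, x, y} : Set X) with hK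
  have hdK : d ∈ K := Subgroup.subset_closure (by simp)
  have hxK : x ∈ K := Subgroup.subset_closure (by simp)
  have hyK : y ∈ K := Subgroup.subset_closure (by simp)
  have hwK : w ∈ K := mul_mem (mul_mem (mul_mem hxK hyK) (inv_mem hxK)) (inv_mem hyK)
  have hPK : P ≤ K := by
    refine h.gen.trans ((Subgroup.closure_le _).2 ?_)
    rintro u ⟨huP, huI⟩
    obtain ⟨j, hj⟩ := zp_cases (com_cube y') (himg ⟨u, huP⟩)
    set r : P := ⟨u, huP⟩ * (y' ^ j)⁻¹ with hr
    have hrx : Commute x (r : X) := (hcom1 r).1 (by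
      rw [hr, map_mul, map_inv, map_pow, hj, mul_inv_cancel])
    have hrd : Commute x (d * r * d * (r : X)⁻¹) := by
      refine Commute.mul_right ?_ hrx.inv_right
      have := (hrx.inv_left).map (MulAut.conj d).toMonoidHom
      simpa [h.d_inv, h.dinv, hx] using this
    obtain ⟨m, hm⟩ := zp_cases x3 (h.commuting_pair hxP hx
      (mul_mem (h.conjP r.2) (inv_mem r.2))
      (by rw [h.dmul, h.dd_cancel, h.dinv, mul_inv_rev (d * (r : X) * d), inv_inv]) hx1 hrd)
    set r₀ : X := (r : X) * x ^ (2 * m) with hr₀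
    have hr₀P : r₀ ∈ P := mul_mem r.2 (pow_mem hxP _)
    have hr₀x : Commute x r₀ := hrx.mul_right ((Commute.refl x).pow_right _)
    have hdpow : ∀ n : ℕ, ∀ g : X, d * g * d = g⁻¹ → d * g ^ n * d = (g ^ n)⁻¹ := by
      intro n g hg
      induction n with
      | zero => simp [h.dd]
      | succ n ih => rw [pow_succ, h.dmul, ih, hg, ← mul_inv_rev, ← pow_succ', ← pow_succ]
    have hr₀d : d * r₀ * d = r₀ := by
      rw [hr₀, h.dmul, hdpow _ x hx, mul_inv_eq_iff_eq_mul.1 hm, (hrx.pow_left m).eq, mul_assoc]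
      congr 1
      rw [← zpow_natCast, ← zpow_natCast x (2 * m), ← zpow_neg, ← zpow_add]
      rw [show ((m : ℤ) + -((2 * m : ℕ) : ℤ)) = ((2 * m : ℕ) : ℤ) + 3 * (-(m : ℤ)) by push_cast; ring,
        zpow_add, zpow_mul, show ((x : X) ^ (3 : ℤ)) = 1 by exact_mod_cast x3, one_zpow, mul_one]
    set a := (x ^ (2 * m))⁻¹ with ha
    set b := y ^ j with hb
    have hu : u = r₀ * a * b := by
      rw [hr₀, ha, mul_inv_cancel_right]
      show u = u * (y ^ j)⁻¹ * y ^ j
      rw [inv_mul_cancel_right]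
    have hra : Commute r₀ a := ((hr₀x.pow_left _).inv_left).symm
    -- `b` moves `a` by a central element of `K`
    set ζ := a * b * a⁻¹ * b⁻¹ with hζ
    have hζ' : ∃ n : ℕ, ζ = w ^ n := by
      let aP : P := ⟨a, inv_mem (pow_mem hxP _)⟩
      have key : ∀ k : ℕ, x ^ k * b * (x ^ k)⁻¹ * b⁻¹ = com (y' ^ j) ^ k := by
        intro k
        induction k with
        | zero => simp
        | succ k ih =>
          calc x ^ (k + 1) * b * (x ^ (k + 1))⁻¹ * b⁻¹
              = x * (x ^ k * b * (x ^ k)⁻¹ * b⁻¹) * (b * x⁻¹ * b⁻¹) := by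
                rw [pow_succ']; simp only [mul_inv_rev, mul_assoc, inv_mul_cancel_left]
            _ = com (y' ^ j) ^ k * (x * b * x⁻¹ * b⁻¹) := by
                rw [ih, ← ((com_cen _ x).pow_left k).eq]; simp only [mul_assoc]
            _ = com (y' ^ j) ^ (k + 1) := by rw [pow_succ]; rfl
      refine ⟨j * (2 * (2 * m)), ?_⟩
      have ea : a = x ^ (2 * (2 * m)) := by
        rw [ha]
        refine inv_eq_of_mul_eq_one_left ?_
        rw [← pow_add, show 2 * (2 * m) + 2 * m = 3 * (2 * m) by ring, pow_mul, x3, one_pow]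
      rw [hζ, ea, key, map_pow, ← pow_mul]
    obtain ⟨n, hn⟩ := hζ'
    have hζc : ∀ g, Commute ζ g := fun g => hn ▸ (com_cen y' g).pow_left n
    have hb_r : b * r₀ * b⁻¹ = r₀⁻¹ * ζ⁻¹ := by
      have e : u * (d * u * d) = 1 := by rw [huI, mul_inv_cancel]
      have ed : d * u * d = r₀ * a⁻¹ * b⁻¹ := by
        rw [hu, h.dmul, h.dmul, hr₀d, hdpow _ y hy, ha, h.dinv, hdpow _ x hx]
      rw [ed, hu] at e
      calc b * r₀ * b⁻¹ = (r₀ * a)⁻¹ * (r₀ * a * b * (r₀ * a⁻¹ * b⁻¹)) * (b * a * b⁻¹) := by group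
        _ = a⁻¹ * r₀⁻¹ * (b * a * b⁻¹) := by rw [e, mul_one, mul_inv_rev]
        _ = r₀⁻¹ * (a⁻¹ * b * a * b⁻¹) := by
          rw [← (hra.inv_inv).eq]; simp only [mul_assoc]
        _ = r₀⁻¹ * ζ⁻¹ := by
          congr 1
          calc a⁻¹ * b * a * b⁻¹ = a⁻¹ * ζ⁻¹ * a := by rw [hζ]; group
            _ = ζ⁻¹ := by rw [mul_assoc, (hζc a).inv_left.eq, inv_mul_cancel_left]
    have hbb : Commute (b * b) r₀ := by
      have e2 : b * b * r₀ * (b * b)⁻¹ = r₀ := by
        calc b * b * r₀ * (b * b)⁻¹ = b * (b * r₀ * b⁻¹) * b⁻¹ := by group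
          _ = b * (r₀⁻¹ * ζ⁻¹) * b⁻¹ := by rw [hb_r]
          _ = (b * r₀ * b⁻¹)⁻¹ * (b * ζ⁻¹ * b⁻¹) := by group
          _ = ζ * r₀ * (b * ζ⁻¹ * b⁻¹) := by rw [hb_r]; group
          _ = r₀ := by
            rw [← (hζc b).inv_left.eq, mul_inv_cancel_right, (hζc r₀).eq, mul_inv_cancel_right]
      exact mul_inv_eq_iff_eq_mul.1 e2
    have hb3 : b = (b * b) * (b * b) := by
      have b3 : b ^ 3 = 1 := by rw [hb, ← pow_mul, mul_comm, pow_mul, R.hy, one_pow]
      calc b = b ^ 3 * b := by rw [b3, one_mul]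
        _ = _ := by simp only [pow_succ, pow_zero, one_mul, mul_assoc]
    have hbr : Commute b r₀ := hb3 ▸ hbb.mul_left hbb
    rw [hbr.eq, mul_inv_cancel_right] at hb_r
    have hsq : r₀ * r₀ = ζ⁻¹ := by
      conv_lhs => arg 2; rw [hb_r]
      rw [mul_inv_cancel_left]
    have hr₀K : r₀ ∈ K := by
      have h2 : r₀ * r₀ ∈ K := hsq ▸ inv_mem (hn ▸ pow_mem hwK n)
      obtain ⟨k, hk⟩ := h.pgroup ⟨r₀, hr₀P⟩
      have hk' : r₀ ^ 3 ^ k = 1 := congrArg Subtype.val hk
      obtain ⟨t, ht⟩ := (show Odd (3 ^ k) from Odd.pow (by decide))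
      have : r₀ = (r₀ * r₀) ^ (t + 1) := by
        rw [← pow_two, ← pow_mul, show 2 * (t + 1) = 3 ^ k + 1 by omega, pow_succ, hk', one_mul]
      rw [this]; exact pow_mem h2 _
    show u ∈ K
    rw [hu, ha, hb]
    exact mul_mem (mul_mem hr₀K (inv_mem (pow_mem hxK _))) (pow_mem hyK _)
  rw [eq_top_iff]
  intro g _
  rcases h.cover g with hg | hg
  · exact hPK hg
  · have := mul_mem (hPK hg) hdK
    rwa [mul_assoc, h.dd, mul_one] at this

end Hyp

end Cfsg.Agent.Sporadic96.WidthOneModule
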