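import Cfsg.Agent.Lib.FischerSpace.Structure
import Cfsg.Agent.Lib.Coprime.Action
import Cfsg.Agent.Lib.PGroup.Basic
import Cfsg.Agent.Sporadic96.WidthOneModule

/-!
# Groups `H = O_{2,3,2}(H)` with `F*(H) = O₂(H)` generated by a class of 3-transpositions
-/

set_option autoImplicit false

namespace Cfsg.Agent.Sporadic96.TwoRadical

open Cfsg.Agent

/-- A 2-group generated by a conjugation invariant set of conjugates of `a` is generated by `a`. -/
theorem zpowers_eq_top {G : Type*} [Group G] [Finite G] (hG : IsPGroup 2 G) {a : G} {S : Set G}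
    (hS : ∀ e ∈ S, ∃ g : G, g * a * g⁻¹ = e) (hgen : Subgroup.closure S = ⊤) :
    Subgroup.zpowers a = ⊤ := by
  haveI : Fact (Nat.Prime 2) := ⟨Nat.prime_two⟩
  haveI := hG.isNilpotent
  rcases eq_top_or_exists_le_coatom (Subgroup.zpowers a) with h | ⟨M, hM, hle⟩
  · exact h
  exfalso
  have hMn : M.Normal :=
    Subgroup.NormalizerCondition.normal_of_coatom M Group.normalizerCondition_of_isNilpotent hM
  refine hM.1 (top_le_iff.1 (hgen ▸ (Subgroup.closure_le M).2 fun e he => ?_))
  obtain ⟨g, rfl⟩ := hS e he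
  exact hMn.conj_mem a (hle (Subgroup.mem_zpowers a)) g

/-- A group of order six with an element inverted by an involution is `S₃`. -/
theorem perm_three {X : Type*} [Group X] [Finite X] (hX : Nat.card X = 6) {d u : X} (hd : d * d = 1)
    (hd1 : d ≠ 1) (hu1 : u ^ 3 = 1) (hu : u ≠ 1) (h : d * u * d = u⁻¹) :
    Nonempty (X ≃* Equiv.Perm (Fin 3)) := by
  classical
  haveI : Fact (Nat.Prime 2) := ⟨Nat.prime_two⟩
  have hdo : orderOf d = 2 := orderOf_eq_prime (by rw [pow_two]; exact hd) hd1
  set D := Subgroup.zpowers d with hD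
  have hidx : Nat.card (X ⧸ D) = 3 := by
    have h' := Subgroup.card_eq_card_quotient_mul_card_subgroup D
    rw [hX, hD, Nat.card_zpowers, hdo] at h'
    change Nat.card (X ⧸ Subgroup.zpowers d) = 3
    omega
  let e : X ⧸ D ≃ Fin 3 := Finite.equivFinOfCardEq hidx
  let φ : X →* Equiv.Perm (Fin 3) := e.permCongrHom.toMonoidHom.comp (MulAction.toPermHom X (X ⧸ D))
  have hinj : Function.Injective φ := by
    refine e.permCongrHom.injective.comp ?_
    rw [← MonoidHom.ker_eq_bot_iff, ← Subgroup.normalCore_eq_ker]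
    by_contra hne
    obtain ⟨g, hg, hg1⟩ := (Subgroup.ne_bot_iff_exists_ne_one (H := D.normalCore)).1 hne |>.elim
      fun g hg => (⟨g.1, g.2, fun e => hg (Subtype.ext e)⟩ : ∃ g ∈ D.normalCore, g ≠ 1)
    have hgd : g = d := by
      obtain ⟨k, rfl⟩ := D.normalCore_le hg
      have h2 : d ^ (2 : ℤ) = 1 := by rw [zpow_two]; exact hd
      rcases Int.even_or_odd' k with ⟨j, rfl | rfl⟩
      · exact absurd (by show d ^ (2 * j) = 1; rw [zpow_mul, h2, one_zpow]) hg1
      · show d ^ (2 * j + 1) = d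
        rw [zpow_add, zpow_mul, h2, one_zpow, one_mul, zpow_one]
    subst hgd
    have hc : u * g * u⁻¹ ∈ D := D.normalCore_le ((inferInstance : D.normalCore.Normal).conj_mem g hg u)
    obtain ⟨k, hk⟩ := hc
    have hk : g ^ k = u * g * u⁻¹ := hk
    have h2 : g ^ (2 : ℤ) = 1 := by rw [zpow_two]; exact hd
    rcases Int.even_or_odd' k with ⟨j, rfl | rfl⟩
    · rw [zpow_mul, h2, one_zpow] at hk
      exact hd1 (by simpa [mul_inv_eq_one] using hk.symm)
    · rw [zpow_add, zpow_mul, h2, one_zpow, one_mul, zpow_one] at hk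
      have e1 : g * u * g = u := by
        have := eq_mul_inv_iff_mul_eq.1 hk
        rw [this, mul_assoc, hd, mul_one]
      rw [e1] at h
      apply hu
      have e2 : u * u = 1 := mul_eq_one_iff_eq_inv.2 h
      rw [pow_succ, pow_two, e2, one_mul] at hu1
      exact hu1
  refine ⟨MulEquiv.ofBijective φ ((Nat.bijective_iff_injective_and_card φ).2 ⟨hinj, ?_⟩)⟩
  rw [hX, Nat.card_perm, Nat.card_fin]
  rfl

variable {H : Type*} [Group H] [Finite H] {E : Set H}

theorem main (hE : Cfsg.IsThreeTranspositionClass E) (hE2 : ∃ a ∈ E, ∃ b ∈ E, a ≠ b)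
    (hF : Cfsg.generalizedFittingSubgroup H = Cfsg.pCore 2 H)
    (h232 : ∃ P : Sylow 3 (H ⧸ Cfsg.pCore 2 H), (P : Subgroup (H ⧸ Cfsg.pCore 2 H)).Normal ∧
      ∃ k : ℕ, (P : Subgroup (H ⧸ Cfsg.pCore 2 H)).index = 2 ^ k) :
    Nonempty (H ⧸ Cfsg.pCore 2 H ≃* Equiv.Perm (Fin 3)) ∨
      Nonempty (Order54.M ≃* H ⧸ Cfsg.pCore 2 H) := by
  classical
  haveI : Fact (Nat.Prime 2) := ⟨Nat.prime_two⟩
  haveI : Fact (Nat.Prime 3) := ⟨Nat.prime_three⟩
  have hcE := FischerSpace.class_invariant hE
  set Q := Cfsg.pCore 2 H with hQdef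
  have hQ : IsPGroup 2 Q := Thompson.isPGroup_pCore
  obtain ⟨P, hPn, k, hk⟩ := h232
  haveI := hPn
  set π := QuotientGroup.mk' Q with hπ
  have hEQ : ∀ e ∈ E, e ∉ Q := by
    intro e he heQ
    have htop : Q = ⊤ := top_le_iff.1 (hE.2.2 ▸ (Subgroup.closure_le Q).2 fun f hf => by
      obtain ⟨g, rfl⟩ := FischerSpace.class_isConj hE he hf
      exact (inferInstance : Q.Normal).conj_mem e heQ g)
    obtain ⟨a, ha, hb⟩ := hE2
    obtain ⟨b, hb, hab⟩ := FischerSpace.exists_not_commute hE ⟨a, ha, hb⟩ ha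
    obtain ⟨m, hm⟩ := hQ ⟨a * b, by rw [htop]; exact Subgroup.mem_top _⟩
    have h3 : orderOf (a * b) = 3 := FischerSpace.orderOf_mul_eq_three hE.1 ha hb hab
    have h1 : a * b = 1 := FischerSpace.eq_one_of_pow (FischerSpace.cube_eq_one hE.1 ha hb hab)
      (congrArg Subtype.val hm) (by norm_num)
    rw [h1, orderOf_one] at h3
    omega
  have hD : Cfsg.IsThreeTranspositionSet (π '' E) :=
    FischerSpace.set_image hE.1 π fun e he h1 => hEQ e he ((QuotientGroup.eq_one_iff e).1 h1)
  have hDinv : FischerSpace.Invariant (π '' E) := by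
    rintro g _ ⟨e, he, rfl⟩
    obtain ⟨g, rfl⟩ := QuotientGroup.mk'_surjective Q g
    exact ⟨g * e * g⁻¹, hcE g e he, by simp [π]⟩
  have hgen : Subgroup.closure (π '' E) = ⊤ := by
    rw [← MonoidHom.map_closure, hE.2.2, Subgroup.map_top_of_surjective π (QuotientGroup.mk'_surjective Q)]
  have hconj : ∀ x ∈ π '' E, ∀ y ∈ π '' E, ∃ g, g * x * g⁻¹ = y := by
    rintro _ ⟨a, ha, rfl⟩ _ ⟨b, hb, rfl⟩
    obtain ⟨g, rfl⟩ := FischerSpace.class_isConj hE ha hb
    exact ⟨π g, by simp⟩
  -- the quotient by `P` has order two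
  let PX : Subgroup (H ⧸ Q) := P
  haveI : PX.Normal := hPn
  have hPX : IsPGroup 3 PX := P.isPGroup'
  have hnot : ∀ x ∈ π '' E, x ∉ PX := by
    intro x hx hxP
    obtain ⟨m, hm⟩ := hPX ⟨x, hxP⟩
    exact FischerSpace.ne_one hD hx (FischerSpace.eq_one_of_pow
      (by rw [pow_two]; exact FischerSpace.mul_self hD hx) (congrArg Subtype.val hm) (by norm_num))
  obtain ⟨a₀, ha₀, -⟩ := id hE2
  set d := π a₀ with hd
  have hdD : d ∈ π '' E := ⟨a₀, ha₀, rfl⟩
  have hdd : d * d = 1 := FischerSpace.mul_self hD hdD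
  have hcover : ∀ g, g ∈ PX ∨ g * d ∈ PX := by
    have hq2 : IsPGroup 2 ((H ⧸ Q) ⧸ PX) := IsPGroup.of_card (n := k) hk
    have hz : Subgroup.zpowers (QuotientGroup.mk' PX d) = ⊤ := by
      refine zpowers_eq_top hq2 (S := QuotientGroup.mk' PX '' (π '' E)) ?_ ?_
      · rintro _ ⟨x, hx, rfl⟩
        obtain ⟨g, hg⟩ := hconj d hdD x hx
        exact ⟨QuotientGroup.mk' PX g, by rw [← hg, map_mul, map_mul, map_inv]⟩
      · rw [← MonoidHom.map_closure, hgen,
          Subgroup.map_top_of_surjective _ (QuotientGroup.mk'_surjective PX)]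
    intro g
    obtain ⟨n, hn⟩ : QuotientGroup.mk' PX g ∈ Subgroup.zpowers (QuotientGroup.mk' PX d) := by
      rw [hz]; exact Subgroup.mem_top _
    have h2 : d ^ (2 : ℤ) = 1 := by rw [zpow_two]; exact hdd
    have hn' : ((d ^ n : H ⧸ Q) : (H ⧸ Q) ⧸ PX) = (g : (H ⧸ Q) ⧸ PX) := by
      rw [QuotientGroup.mk_zpow]; exact hn
    rcases Int.even_or_odd' n with ⟨j, rfl | rfl⟩
    · left
      rw [zpow_mul, h2, one_zpow, QuotientGroup.mk_one] at hn'
      exact (QuotientGroup.eq_one_iff g).1 hn'.symm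
    · right
      rw [zpow_add, zpow_mul, h2, one_zpow, one_mul, zpow_one] at hn'
      rw [← QuotientGroup.eq_one_iff, QuotientGroup.mk_mul, ← hn', ← QuotientGroup.mk_mul, hdd]
      rfl
  have hprod : ∀ x ∈ π '' E, ∀ y ∈ π '' E, x * y ∈ PX := by
    intro x hx y hy
    have h1 := (hcover x).resolve_left (hnot x hx)
    have h2 := (hcover y).resolve_left (hnot y hy)
    have := mul_mem h1 (inv_mem h2)
    rwa [mul_inv_rev, FischerSpace.inv_eq hD hy, ← mul_assoc, mul_inv_cancel_right] at this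
  have hw1 : ∀ x ∈ π '' E, ∀ y ∈ π '' E, Commute x y → x = y := by
    intro x hx y hy hxy
    obtain ⟨m, hm⟩ := hPX ⟨x * y, hprod x hx y hy⟩
    have h1 : x * y = 1 := FischerSpace.eq_one_of_pow
      ((FischerSpace.commute_iff_sq hD hx hy).1 hxy) (congrArg Subtype.val hm) (by norm_num)
    rw [← FischerSpace.inv_eq hD hy]
    exact eq_inv_of_mul_eq_one_left h1
  have hdP : d ∉ PX := hnot d hdD
  -- `d u` is a member of the class for every element `u` inverted by `d`
  have hdu : ∀ u ∈ PX, d * u * d = u⁻¹ → d * u ∈ π '' E := by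
    intro u hu hui
    obtain ⟨m, hm⟩ := hPX ⟨u, hu⟩
    have hm' : u ^ 3 ^ m = 1 := congrArg Subtype.val hm
    obtain ⟨t, ht⟩ := (show Odd (3 ^ m) from Odd.pow (by decide))
    set v := u ^ (t + 1) with hv
    have hvv : v * v = u := by
      rw [hv, ← pow_add, show t + 1 + (t + 1) = 3 ^ m + 1 by omega, pow_succ, hm', one_mul]
    have hdv : d * v⁻¹ * d = v := by
      have hpow : ∀ n : ℕ, d * u ^ n * d = (u ^ n)⁻¹ := fun n => by
        induction n with
        | zero => simp [hdd]
        | succ n ih =>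
          calc d * u ^ (n + 1) * d = d * u ^ n * (d * d) * u * d := by
                rw [hdd, pow_succ]; simp [mul_assoc]
            _ = (d * u ^ n * d) * (d * u * d) := by simp only [mul_assoc]
            _ = (u ^ (n + 1))⁻¹ := by rw [ih, hui, ← mul_inv_rev, ← pow_succ']
      calc d * v⁻¹ * d = d * (d * v * d) * d := by rw [hv, hpow]
        _ = (d * d) * v * (d * d) := by simp only [mul_assoc]
        _ = v := by rw [hdd, one_mul, mul_one]
    have : v⁻¹ * d * v⁻¹⁻¹ = d * u := by
      calc v⁻¹ * d * v⁻¹⁻¹ = (d * d) * v⁻¹ * d * v := by rw [hdd, one_mul, inv_inv]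
        _ = d * (d * v⁻¹ * d) * v := by simp only [mul_assoc]
        _ = d * u := by rw [hdv, mul_assoc, hvv]
    exact this ▸ hDinv _ d hdD
  have hne_du : ∀ u : H ⧸ Q, u ≠ 1 → d * u ≠ d := fun u hu h => hu (mul_eq_left.1 h)
  have hcube : ∀ u ∈ PX, d * u * d = u⁻¹ → u ^ 3 = 1 := by
    intro u hu hui
    by_cases hu1 : u = 1
    · rw [hu1, one_pow]
    have hnc : ¬ Commute d (d * u) := fun hc =>
      hne_du u hu1 (hw1 d hdD _ (hdu u hu hui) hc).symm
    have := FischerSpace.cube_eq_one hD hdD (hdu u hu hui) hnc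
    rwa [← mul_assoc, hdd, one_mul] at this
  have hgenP : PX ≤ Subgroup.closure {u | u ∈ PX ∧ d * u * d = u⁻¹} := by
    set K := Subgroup.closure {u | u ∈ PX ∧ d * u * d = u⁻¹} with hK
    have hKP : K ≤ PX := (Subgroup.closure_le _).2 fun u hu => hu.1
    have hKd : ∀ u ∈ K, d * u * d ∈ K := by
      intro u hu
      induction hu using Subgroup.closure_induction with
      | mem u hu => rw [hu.2]; exact inv_mem (Subgroup.subset_closure hu)
      | one => rw [mul_one, hdd]; exact one_mem _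
      | mul a b _ _ ha hb =>
        have : d * (a * b) * d = d * a * d * (d * b * d) := by
          calc d * (a * b) * d = d * a * (d * d) * b * d := by rw [hdd]; simp [mul_assoc]
            _ = _ := by simp only [mul_assoc]
        rw [this]; exact mul_mem ha hb
      | inv a _ ha =>
        have : d * a⁻¹ * d = (d * a * d)⁻¹ := by
          simp only [mul_inv_rev, mul_assoc, FischerSpace.inv_eq hD hdD]
        rw [this]; exact inv_mem ha
    have hE' : ∀ x ∈ π '' E, x * d ∈ K := by
      intro x hx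
      refine Subgroup.subset_closure ⟨hprod x hx d hdD, ?_⟩
      rw [mul_inv_rev, FischerSpace.inv_eq hD hx, FischerSpace.inv_eq hD hdD]
      calc d * (x * d) * d = d * x * (d * d) := by simp only [mul_assoc]
        _ = d * x := by rw [hdd, mul_one]
    let S : Subgroup (H ⧸ Q) :=
      { carrier := {g | g ∈ K ∨ g * d ∈ K}
        one_mem' := Or.inl (one_mem _)
        mul_mem' := by
          rintro a b (ha | ha) (hb | hb)
          · exact Or.inl (mul_mem ha hb)
          · exact Or.inr (by rw [mul_assoc]; exact mul_mem ha hb)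
          · refine Or.inr ?_
            have := mul_mem ha (hKd b hb)
            rwa [show a * d * (d * b * d) = a * (d * d) * b * d by simp only [mul_assoc], hdd,
              mul_one] at this
          · refine Or.inl ?_
            have := mul_mem ha (hKd _ hb)
            rwa [show a * d * (d * (b * d) * d) = a * (d * d) * b * (d * d) by simp only [mul_assoc],
              hdd, mul_one, mul_one] at this
        inv_mem' := by
          rintro a (ha | ha)
          · exact Or.inl (inv_mem ha)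
          · refine Or.inr ?_
            have := hKd _ (inv_mem ha)
            rwa [mul_inv_rev, FischerSpace.inv_eq hD hdD,
              show d * (d * a⁻¹) * d = (d * d) * a⁻¹ * d by simp only [mul_assoc], hdd, one_mul] at this }
    intro g hg
    have hS : g ∈ S := by
      have : (⊤ : Subgroup (H ⧸ Q)) ≤ S :=
        hgen ▸ (Subgroup.closure_le S).2 fun x hx => Or.inr (hE' x hx)
      exact this (Subgroup.mem_top g)
    rcases hS with h | h
    · exact h
    · exfalso
      apply hdP
      have := mul_mem (inv_mem hg) (hKP h)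
      rwa [inv_mul_cancel_left] at this
  obtain ⟨a₁, ha₁, b₁, hb₁, hab₁⟩ : ∃ a ∈ E, ∃ b ∈ E, ¬ Commute a b := by
    obtain ⟨b, hb, hab⟩ := FischerSpace.exists_not_commute hE (by assumption) ha₀
    exact ⟨a₀, ha₀, b, hb, hab⟩
  have hPne : PX ≠ ⊥ := by
    intro hbot
    have h := hprod _ ⟨a₁, ha₁, rfl⟩ _ ⟨b₁, hb₁, rfl⟩
    rw [hbot, Subgroup.mem_bot, ← map_mul] at h
    obtain ⟨m, hm⟩ := hQ ⟨a₁ * b₁, (QuotientGroup.eq_one_iff _).1 h⟩
    have h3 := FischerSpace.orderOf_mul_eq_three hE.1 ha₁ hb₁ hab₁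
    rw [FischerSpace.eq_one_of_pow (FischerSpace.cube_eq_one hE.1 ha₁ hb₁ hab₁)
      (congrArg Subtype.val hm) (by norm_num), orderOf_one] at h3
    omega
  -- the action on the Frattini quotient of `Q`
  haveI hΦn : (frattini Q).Normal := Subgroup.normal_of_characteristic _
  let ρH : H →* MulAut (Q ⧸ frattini Q) := MonoidHom.mk' (fun g => QuotientGroup.congr (frattini Q)
      (frattini Q) (MulAut.conjNormal g) (Subgroup.characteristic_iff_map_eq.mp inferInstance _)) (by
    intro g h
    refine MulEquiv.ext fun w => ?_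
    obtain ⟨y, rfl⟩ := QuotientGroup.mk_surjective w
    show ((MulAut.conjNormal (g * h) y : Q) : Q ⧸ frattini Q) = _
    rw [map_mul]
    rfl)
  have ρH_mk : ∀ (g : H) (q : Q), ρH g (q : Q ⧸ frattini Q) = ((MulAut.conjNormal g q : Q) : Q ⧸ frattini Q) :=
    fun g q => rfl
  letI : CommGroup (Q ⧸ frattini Q) :=
    { (inferInstance : Group (Q ⧸ frattini Q)) with
      mul_comm := fun a b => (PGroup.quotient_frattini_commute hQ a b).eq }
  have hV : ∀ v : Q ⧸ frattini Q, v * v = 1 := fun v => by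
    rw [← pow_two]; exact PGroup.quotient_frattini_pow hQ v
  have hker : ρH.ker = Q := by
    refine le_antisymm ?_ ?_
    · refine Thompson.le_pCore inferInstance ?_
      intro g
      set m := orderOf g
      have hm0 : m ≠ 0 := (orderOf_pos g).ne'
      obtain ⟨a, r, hr, hmr⟩ := Nat.exists_eq_two_pow_mul_odd hm0
      refine ⟨a, ?_⟩
      set h' := (g : H) ^ 2 ^ a with hh'
      have hodd : h' ^ r = 1 := by
        rw [hh', ← pow_mul, ← hmr, ← SubmonoidClass.coe_pow, pow_orderOf_eq_one, OneMemClass.coe_one]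
      have hA : Subgroup.zpowers h' ≤ Subgroup.normalizer (Q : Set H) := by
        rw [Subgroup.normalizer_eq_top]; exact le_top
      have hcop : (Nat.card (Subgroup.zpowers h')).Coprime (Nat.card (frattini Q)) := by
        obtain ⟨i, hi⟩ := IsPGroup.iff_card.1 (hQ.to_subgroup (frattini Q))
        rw [hi, Nat.card_zpowers]
        exact (Nat.coprime_two_right.2 (hr.of_dvd_nat (orderOf_dvd_of_pow_eq_one hodd))).pow_right i
      have htriv : ∀ x ∈ Subgroup.zpowers h', ∀ q ∈ Q,
          x * q * x⁻¹ * q⁻¹ ∈ (frattini Q).map Q.subtype := by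
        intro x hx q hq
        have hxk : x ∈ ρH.ker := (Subgroup.zpowers_le.2 (pow_mem g.2 _)) hx
        have e := congrArg (fun f : MulAut (Q ⧸ frattini Q) => f ((⟨q, hq⟩ : Q) : Q ⧸ frattini Q))
          (MonoidHom.mem_ker.1 hxk)
        simp only [ρH_mk, MulAut.one_apply] at e
        refine ⟨MulAut.conjNormal x ⟨q, hq⟩ * ⟨q, hq⟩⁻¹, ?_, ?_⟩
        · show _ ∈ frattini Q
          rw [← QuotientGroup.eq_one_iff, QuotientGroup.mk_mul, QuotientGroup.mk_inv, e, mul_inv_cancel]
        · simp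
      have hcen := Coprime.le_centralizer_of_frattini _ Q hA hcop htriv
      have hQh : h' ∈ Q := hF ▸ Components.centralizer_generalizedFitting_le
        (by rw [hF]; exact hcen (Subgroup.mem_zpowers h'))
      obtain ⟨i, hi⟩ := hQ ⟨h', hQh⟩
      have h1 : h' = 1 := by
        have h4 := pow_gcd_eq_one.mpr ⟨hodd, (congrArg Subtype.val hi : h' ^ 2 ^ i = 1)⟩
        rwa [((Nat.coprime_two_right.2 hr).pow_right i).gcd_eq_one, pow_one] at h4
      exact Subtype.ext h1
    · intro q hq
      rw [MonoidHom.mem_ker]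
      refine MulEquiv.ext fun w => ?_
      obtain ⟨y, rfl⟩ := QuotientGroup.mk_surjective w
      rw [ρH_mk, MulAut.one_apply]
      have : (MulAut.conjNormal q y : Q) = ⟨q, hq⟩ * y * ⟨q, hq⟩⁻¹ := Subtype.ext (by simp)
      rw [this, QuotientGroup.mk_mul, QuotientGroup.mk_mul, QuotientGroup.mk_inv,
        mul_comm ((⟨q, hq⟩ : Q) : Q ⧸ frattini Q), mul_inv_cancel_right]
  let ρ : H ⧸ Q →* MulAut (Q ⧸ frattini Q) := QuotientGroup.lift Q ρH hker.ge
  have hρinj : Function.Injective ρ := by
    rw [injective_iff_map_eq_one]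
    intro x hx
    obtain ⟨g, rfl⟩ := QuotientGroup.mk'_surjective Q x
    exact (QuotientGroup.eq_one_iff g).2 (hker ▸ (MonoidHom.mem_ker.2 hx))
  have hfix : ∀ u ∈ PX, d * u * d = u⁻¹ → u ≠ 1 → ∀ v, ρ u v = v → ρ d v = v := by
    intro u hu hui hu1 v hv
    obtain ⟨b, hb, hbu⟩ := hdu u hu hui
    obtain ⟨q, rfl⟩ := QuotientGroup.mk_surjective v
    have hne : π b ≠ d := by rw [hbu]; exact hne_du u hu1
    set a := a₀
    set a' := (q : H) * a * (q : H)⁻¹ with ha'
    have ha'E : a' ∈ E := hcE _ a ha₀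
    have hq1 : π (q : H) = 1 := (QuotientGroup.eq_one_iff _).2 q.2
    have hπa' : π a' = d := by rw [ha', map_mul, map_mul, map_inv, hq1, ← hd]; simp
    have hba : ¬ Commute b a := fun h => hne (hw1 _ ⟨b, hb, rfl⟩ _ hdD (h.map π))
    have hba' : ¬ Commute b a' := fun h => hne (hw1 _ ⟨b, hb, rfl⟩ _ hdD (hπa' ▸ h.map π))
    have haa' : Commute a a' := by
      by_contra hc
      have hm : a * a' ∈ Q := (QuotientGroup.eq_one_iff _).1 (show π (a * a') = 1 by
        rw [map_mul, hπa', ← hd, hdd])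
      obtain ⟨m, hm⟩ := hQ ⟨a * a', hm⟩
      have h3 := FischerSpace.orderOf_mul_eq_three hE.1 ha₀ ha'E hc
      rw [FischerSpace.eq_one_of_pow (FischerSpace.cube_eq_one hE.1 ha₀ ha'E hc)
        (congrArg Subtype.val hm) (by norm_num), orderOf_one] at h3
      omega
    have hA := FischerSpace.mul_self hE.1 ha₀
    have hA' := FischerSpace.mul_self hE.1 ha'E
    have hB := FischerSpace.mul_self hE.1 hb
    have br := FischerSpace.braid hE.1 hb ha₀ hba
    have br' := FischerSpace.braid hE.1 hb ha'E hba'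
    set t := a * a' with ht
    have key : t * (a * (b * t * b) * a) * (b * t * b) = 1 := by
      have cl : ∀ x y : H, x * x = 1 → x * (x * y) = y := fun x y h => by
        rw [← mul_assoc, h, one_mul]
      have e1 : a * (b * t * b) * a = b * a * (b * a' * b * a) := by
        calc a * (b * t * b) * a = (a * b * a) * (a' * (b * a)) := by rw [ht]; simp only [mul_assoc]
          _ = _ := by rw [← br]; simp only [mul_assoc]
      rw [e1]
      calc t * (b * a * (b * a' * b * a)) * (b * t * b)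
          = t * (b * a * ((b * a' * b) * (a * b * a) * (a' * b))) := by
            rw [ht]; simp only [mul_assoc]
        _ = t * (b * a * ((a' * b * a') * (b * a * b) * (a' * b))) := by rw [br', br]
        _ = t * b * a * a' * b * (a' * b * a) * (b * a' * b) := by simp only [mul_assoc]
        _ = t * b * a * a' * b * (a' * b * a) * (a' * b * a') := by rw [br']
        _ = t * b * a * a' * b * a' * b * (a * a') * b * a' := by simp only [mul_assoc]
        _ = t * b * a * a' * b * a' * b * (a' * a) * b * a' := by rw [haa'.eq]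
        _ = t * b * a * a' * b * (a' * b * a') * a * b * a' := by simp only [mul_assoc]
        _ = t * b * a * a' * b * (b * a' * b) * a * b * a' := by rw [br']
        _ = t * b * a * (a' * (b * (b * (a' * (b * (a * (b * a'))))))) := by simp only [mul_assoc]
        _ = t * b * a * (b * (a * (b * a'))) := by rw [cl b _ hB, cl a' _ hA']
        _ = t * (b * a * b) * (a * (b * a')) := by simp only [mul_assoc]
        _ = t * (a * b * a) * (a * (b * a')) := by rw [br]
        _ = t * a * (b * (a * (a * (b * a')))) := by simp only [mul_assoc]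
        _ = t * a * a' := by rw [cl a _ hA, cl b _ hB]
        _ = a * a' * (a * a') := by rw [ht, mul_assoc]
        _ = 1 := by rw [← pow_two]; exact (FischerSpace.commute_iff_sq hE.1 ha₀ ha'E).1 haa'
    have htQ : t ∈ Q := (QuotientGroup.eq_one_iff _).1 (show π (a * a') = 1 by
      rw [map_mul, hπa', ← hd, hdd])
    set A := ρ d with hA0
    set B := ρ (π b) with hB0
    set U := ρ u with hU0
    set q' : Q ⧸ frattini Q := ((q : Q) : Q ⧸ frattini Q) with hq'
    set tb : Q ⧸ frattini Q := ((⟨t, htQ⟩ : Q) : Q ⧸ frattini Q) with htb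
    have hUAB : ∀ w, A (B w) = U w := fun w => by
      rw [← MulAut.mul_apply, ← map_mul, hbu, ← mul_assoc, hdd, one_mul]
    have htb' : tb = A q' * q'⁻¹ := by
      have : (⟨t, htQ⟩ : Q) = MulAut.conjNormal a q * q⁻¹ := Subtype.ext (by
        simp [ht, ha', FischerSpace.inv_eq hE.1 ha₀, mul_assoc])
      rw [htb, this, QuotientGroup.mk_mul, QuotientGroup.mk_inv]
      rfl
    have hAA : ∀ w, A (A w) = w := fun w => by
      rw [← MulAut.mul_apply, ← map_mul, hdd, map_one, MulAut.one_apply]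
    have hBB : ∀ w, B (B w) = w := fun w => by
      rw [← MulAut.mul_apply, ← map_mul, hbu]
      rw [FischerSpace.mul_self hD (hdu u hu hui), map_one, MulAut.one_apply]
    have hUA : U (A q') = A q' := by
      have h1 : A (B q') = q' := by rw [hUAB]; exact hv
      have h2 : B q' = A q' := by rw [← hAA (B q'), h1]
      rw [← hUAB, ← h2, hBB, h2]
    have hUt : U tb = tb := by rw [htb', map_mul, map_inv, hUA, hv]
    have hAt : A tb = tb := by
      rw [htb', map_mul, map_inv, hAA]
      have := hV (A q' * q'⁻¹)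
      rw [mul_eq_one_iff_eq_inv, mul_inv_rev, inv_inv] at this
      rw [this]
    have hBt : B tb = tb := by
      calc B tb = A (A (B tb)) := (hAA _).symm
        _ = tb := by rw [hUAB, hUt, hAt]
    have htQ' : b * t * b ∈ Q := by
      have := (inferInstance : Q.Normal).conj_mem t htQ b
      rwa [FischerSpace.inv_eq hE.1 hb] at this
    have htQ'' : a * (b * t * b) * a ∈ Q := by
      have := (inferInstance : Q.Normal).conj_mem _ htQ' a
      rwa [FischerSpace.inv_eq hE.1 ha₀] at this
    have e2 : ((⟨b * t * b, htQ'⟩ : Q) : Q ⧸ frattini Q) = tb := by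
      have : (⟨b * t * b, htQ'⟩ : Q) = MulAut.conjNormal b ⟨t, htQ⟩ := Subtype.ext (by
        simp [FischerSpace.inv_eq hE.1 hb])
      rw [this]; exact hBt
    have e3 : ((⟨_, htQ''⟩ : Q) : Q ⧸ frattini Q) = tb := by
      have : (⟨_, htQ''⟩ : Q) = MulAut.conjNormal a ⟨b * t * b, htQ'⟩ := Subtype.ext (by
        simp [FischerSpace.inv_eq hE.1 ha₀])
      rw [this]
      show A ((⟨b * t * b, htQ'⟩ : Q) : Q ⧸ frattini Q) = tb
      rw [e2, hAt]
    have e4 : tb * tb * tb = 1 := by
      have : (⟨t, htQ⟩ : Q) * ⟨_, htQ''⟩ * ⟨_, htQ'⟩ = 1 := Subtype.ext key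
      have h5 : (((⟨t, htQ⟩ : Q) * ⟨_, htQ''⟩ * ⟨_, htQ'⟩ : Q) : Q ⧸ frattini Q) = tb * tb * tb := by
        rw [QuotientGroup.mk_mul, QuotientGroup.mk_mul, e2, e3]
      rw [← h5, this, QuotientGroup.mk_one]
    rw [hV, one_mul, htb', mul_inv_eq_one] at e4
    exact e4
  rcases WidthOneModule.Hyp.main (ρ := ρ) (d := d) (P := PX)
    ⟨hρinj, hV, hPn, hPX, hdd, hdP, hcover, hcube, hgenP, hPne, hfix⟩ with
    ⟨h6, u, huP, hu1, hui⟩ | ⟨x, y, R, hxP, hyP, hxy, hgen'⟩
  · exact Or.inl (perm_three h6 hdd (FischerSpace.ne_one hD hdD) (hcube u huP hui) hu1 hui)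
  · exact Or.inr (R.equiv_model (R.hom_injective PX hxP hyP hdP hxy) hgen')

end Cfsg.Agent.Sporadic96.TwoRadical
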