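import Cfsg.Agent.Sporadic96.Singular

/-!
Symmetry of the orthogonality relation on singular involutions.
-/

set_option autoImplicit false

open scoped Pointwise commutatorElement

namespace Cfsg.Agent.Sporadic96

variable {G : Type*} [Group G] {Q : G → Subgroup G} (hQ : IsCoreMap Q)
include hQ

/-- If `x ∈ Q z` and some element of `Q x` moves `z` to `z * x`, then `z ∈ Q x`. -/
theorem mem_of_mover [Finite G] {x z v : G} (Lz : LargeExtra (Q z) z)
    (hxQ : x ∈ Q z) (hx1 : x ≠ 1) (hxz : x ≠ z) (hv : v ∈ Q x)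
    (hvz : v * z * v⁻¹ = z * x) : z ∈ Q x := by
  have hzx : z * x = x * z := (Lz.comm x hxQ).symm
  have hy : x ∈ Q (z * x) := by
    have h1 := conj_mem_core hQ (g := v) hxQ
    rw [hvz] at h1
    rwa [show v * x * v⁻¹ = x by rw [core_comm hQ hv, mul_inv_cancel_right]] at h1
  have hy' : z * x ∈ Q (z * x) := by
    have h1 := conj_mem_core hQ (g := v) Lz.mem
    rwa [hvz] at h1
  have hzy : z ∈ Q (z * x) := by
    have := mul_mem hy' (inv_mem hy)
    rwa [mul_inv_cancel_right] at this
  obtain ⟨q, hq, hqx⟩ := Lz.exists_not_commute hxQ hx1 hxz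
  have hqx' : q * x * q⁻¹ = z * x := by rw [hqx]; simp [mul_assoc]
  have h2 := conj_mem_core hQ (g := q⁻¹) hzy
  rw [← hqx'] at h2
  have e1 : q⁻¹ * (q * x * q⁻¹) * q⁻¹⁻¹ = x := by group
  have e2 : q⁻¹ * z * q⁻¹⁻¹ = z := by
    rw [inv_inv, mul_assoc, ← core_comm hQ hq]; group
  rwa [e1, e2] at h2

theorem symm_aux [Finite G] {x z : G} (Lz : LargeExtra (Q z) z) (Lx : LargeExtra (Q x) x)
    (hxQ : x ∈ Q z) : z ∈ Q x := by
  by_cases hxz : x = z
  · subst hxz; exact Lx.mem
  by_contra hzQ
  have hx1 : x ≠ 1 := Lx.ne_one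
  have hzx : z * x = x * z := (Lz.comm x hxQ).symm
  -- an element of `Q x` commuting with `z` modulo `x` commutes with `z`
  have hA : ∀ v ∈ Q x, (⁅v, z⁆ = 1 ∨ ⁅v, z⁆ = x) → v * z = z * v := by
    intro v hv h
    rcases h with h | h
    · exact commutatorElement_eq_one_iff_mul_comm.mp h
    · exfalso
      refine hzQ (mem_of_mover hQ Lz hxQ hx1 hxz hv ?_)
      rw [commutatorElement_def, mul_inv_eq_iff_eq_mul] at h
      rw [h, hzx]
  set W := Q z ⊓ Subgroup.centralizer ({x} : Set G) with hW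
  set U := Q x ⊓ Subgroup.centralizer ({z} : Set G) with hU
  have hWx : ∀ w ∈ W, w * x = x * w := fun w hw => Subgroup.mem_centralizer_singleton_iff.mp hw.2
  have hUz : ∀ a ∈ U, a * z = z * a := fun a ha => Subgroup.mem_centralizer_singleton_iff.mp ha.2
  have hzW : z ∈ W := ⟨Lz.mem, Subgroup.mem_centralizer_singleton_iff.mpr hzx⟩
  have hxW : x ∈ W := ⟨hxQ, Subgroup.mem_centralizer_singleton_iff.mpr rfl⟩
  -- the subgroup `{1, z, x, z * x}`
  set S : Subgroup G := Subgroup.zpowers z ⊔ Subgroup.zpowers x with hS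
  have hSmem : ∀ r ∈ S, r = 1 ∨ r = z ∨ r = x ∨ r = z * x := by
    have hle : S ≤
        { carrier := {r : G | r = 1 ∨ r = z ∨ r = x ∨ r = z * x}
          one_mem' := Or.inl rfl
          mul_mem' := by
            have h1 : z * (z * x) = x := by rw [← mul_assoc, Lz.sq, one_mul]
            have h2 : z * x * z = x := by rw [mul_assoc, ← hzx, h1]
            have h3 : x * (z * x) = z := by
              rw [← mul_assoc, ← hzx, mul_assoc, Lx.sq, mul_one]
            have h4 : z * x * x = z := by rw [mul_assoc, Lx.sq, mul_one]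
            have h5 : z * x * (z * x) = 1 := by rw [← mul_assoc, h2, Lx.sq]
            rintro a b (rfl | rfl | rfl | rfl) (rfl | rfl | rfl | rfl) <;>
              simp [Lz.sq, Lx.sq, h1, h2, h3, h4, h5, ← hzx]
          inv_mem' := by
            have h5 : (z * x)⁻¹ = z * x := by rw [mul_inv_rev, Lz.inv_u, Lx.inv_u, hzx]
            rintro a (rfl | rfl | rfl | rfl)
            · simp
            · simp [Lz.inv_u]
            · simp [Lx.inv_u]
            · rw [h5]; simp } := by
      refine sup_le (Subgroup.zpowers_le.mpr ?_) (Subgroup.zpowers_le.mpr ?_)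
      · exact Or.inr (Or.inl rfl)
      · exact Or.inr (Or.inr (Or.inl rfl))
    exact fun r hr => hle hr
  have hSW : S ≤ W := sup_le (Subgroup.zpowers_le.mpr hzW) (Subgroup.zpowers_le.mpr hxW)
  have hcentW : ∀ r ∈ Q z, (∀ w ∈ W, r * w = w * r) → r ∈ S := by
    intro r hr hrw
    refine Lz.double_centralizer (hSW.trans inf_le_left)
      ((le_sup_left : _ ≤ S) (Subgroup.mem_zpowers z)) hr fun a ha has => ?_
    exact (hrw a ⟨ha, Subgroup.mem_centralizer_singleton_iff.mpr
      (has x ((le_sup_right : _ ≤ S) (Subgroup.mem_zpowers x)))⟩).symm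
  have hSQx : ∀ r ∈ S, r ∈ Q x → r = 1 ∨ r = x := by
    intro r hr hrQ
    rcases hSmem r hr with e | e | e | e
    · exact Or.inl e
    · exact absurd (e ▸ hrQ) hzQ
    · exact Or.inr e
    · refine absurd ?_ hzQ
      have := mul_mem (e ▸ hrQ) (inv_mem Lx.mem)
      rwa [mul_inv_cancel_right] at this
  -- `[W, U] ≤ ⟨x⟩`
  have hB : ∀ w ∈ W, ∀ a ∈ U, ⁅w, a⁆ = 1 ∨ ⁅w, a⁆ = x := by
    intro w hw a ha
    have h1 : ⁅w, a⁆ ∈ Q x := by
      rw [commutatorElement_def]
      exact mul_mem (core_conj hQ (hWx w hw) ha.1) (inv_mem ha.1)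
    have h2 : ⁅w, a⁆ ∈ Q z := by
      rw [commutatorElement_def, mul_assoc, mul_assoc, ← mul_assoc a]
      exact mul_mem hw.1 (core_conj hQ (hUz a ha) (inv_mem hw.1))
    refine hSQx _ (hcentW _ h2 fun w' hw' => commutatorElement_eq_one_iff_mul_comm.mp ?_) h1
    rcases Lz.commutator _ h2 w' hw'.1 with e | e
    · exact e
    · refine absurd ?_ hzQ
      rw [← e, commutatorElement_def (⁅w, a⁆) w', mul_assoc, mul_assoc, ← mul_assoc w']
      exact mul_mem h1 (core_conj hQ (hWx w' hw') (inv_mem h1))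
  have hzc : ∀ t ∈ Q x, z * t * z ∈ Q x := fun t ht => by
    have := core_conj hQ hzx ht
    rwa [Lz.inv_u] at this
  have hvz_mem : ∀ v ∈ Q x, ⁅v, z⁆ ∈ Q x := by
    intro v hv
    rw [commutatorElement_def, Lz.inv_u, mul_assoc, mul_assoc, ← mul_assoc z]
    exact mul_mem hv (hzc _ (inv_mem hv))
  -- `T = ⟨x, [Q x, z]⟩`
  set T : Subgroup G := Subgroup.closure (insert x ((fun v => ⁅v, z⁆) '' (Q x : Set G))) with hT
  have hTU : T ≤ U := by
    rw [hT, Subgroup.closure_le]
    intro t ht
    rcases ht with rfl | ⟨v, hv, rfl⟩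
    · exact ⟨Lx.mem, Subgroup.mem_centralizer_singleton_iff.mpr hzx.symm⟩
    · refine ⟨hvz_mem v hv, Subgroup.mem_centralizer_singleton_iff.mpr (hA _ (hvz_mem v hv) ?_)⟩
      have e : ⁅⁅v, z⁆, z⁆ = ⁅v, z⁆ * ⁅v, z⁆ := by
        have hzz := Lz.sq
        simp only [commutatorElement_def, mul_inv_rev, inv_inv, Lz.inv_u, mul_assoc, hzz, mul_one]
      rw [e]
      exact Lx.sq_mem_center (hvz_mem v hv)
  have hxT : x ∈ T := Subgroup.subset_closure (Set.mem_insert _ _)
  have hCT : ∀ v ∈ Q x, (∀ t ∈ T, v * t = t * v) → v ∈ U := by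
    intro v hv hvt
    refine ⟨hv, Subgroup.mem_centralizer_singleton_iff.mpr (hA v hv ?_)⟩
    refine Lx.center _ (hvz_mem v hv) fun t ht => ?_
    have hp : ⁅v, ⁅t, z⁆⁆ = 1 :=
      commutatorElement_eq_one_iff_mul_comm.mpr
        (hvt _ (Subgroup.subset_closure (Set.mem_insert_of_mem _ ⟨t, ht, rfl⟩)))
    have hm : ⁅v, z⁆ = v * (z * v * z)⁻¹ := by
      simp [commutatorElement_def, Lz.inv_u, mul_assoc]
    apply commutatorElement_eq_one_iff_mul_comm.mp
    rw [hm, Lx.commutator_mul_left hv (inv_mem (hzc v hv)) ht,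
      Lx.commutator_inv_left (hzc v hv) ht]
    have hsym : ∀ p ∈ Q x, ∀ r ∈ Q x, ⁅p, r⁆ = ⁅r, p⁆ := by
      intro p hp' r hr
      rw [← commutatorElement_inv r p]
      rcases Lx.commutator r hr p hp' with e | e <;> simp [e, Lx.inv_u]
    have h3 : ⁅z * v * z, t⁆ = ⁅v, z * t * z⁆ := by
      have hz2 := Lz.sq
      have e : ⁅z * v * z, t⁆ = z * ⁅v, z * t * z⁆ * z := by
        simp only [commutatorElement_def, mul_inv_rev, Lz.inv_u, mul_assoc]
        simp only [← mul_assoc z z, hz2, one_mul, mul_one]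
      rw [e]
      rcases Lx.commutator v hv _ (hzc t ht) with e' | e' <;> rw [e']
      · simp [hz2]
      · rw [hzx, mul_assoc, hz2, mul_one]
    have h4 : t * (z * t * z)⁻¹ = ⁅t, z⁆ := by simp [commutatorElement_def, Lz.inv_u, mul_assoc]
    rw [h3, hsym v hv t ht, hsym v hv _ (hzc t ht),
      ← Lx.commutator_inv_left (hzc t ht) hv, ← Lx.commutator_mul_left ht (inv_mem (hzc t ht)) hv,
      h4, hsym _ (hvz_mem t ht) v hv]
    exact hp
  have hCU : ∀ d ∈ Q x, (∀ a ∈ U, d * a = a * d) → d ∈ U := by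
    intro d hd hda
    refine hTU (Lx.double_centralizer (hTU.trans inf_le_left) hxT hd fun a ha hat => ?_)
    exact (hda a (hCT a ha hat)).symm
  -- `W` moves every element of `Q x` only by elements of `U`
  have hC : ∀ w ∈ W, ∀ v ∈ Q x, ⁅w, v⁆ ∈ U := by
    intro w hw v hv
    have hwv := core_conj hQ (hWx w hw) hv
    have hd : ⁅w, v⁆ ∈ Q x := by
      rw [commutatorElement_def]; exact mul_mem hwv (inv_mem hv)
    refine hCU _ hd fun a ha => commutatorElement_eq_one_iff_mul_comm.mp ?_
    rw [show ⁅w, v⁆ = w * v * w⁻¹ * v⁻¹ from commutatorElement_def w v,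
      Lx.commutator_mul_left hwv (inv_mem hv) ha.1, Lx.commutator_inv_left hv ha.1]
    have e : ⁅w * v * w⁻¹, a⁆ = w * ⁅v, w⁻¹ * a * w⁆ * w⁻¹ := by
      simp only [commutatorElement_def]; group
    have ha' : w⁻¹ * a * w ∈ Q x := by
      have := core_conj hQ (c := w⁻¹) (Commute.inv_left (hWx w hw)).eq ha.1
      rwa [inv_inv] at this
    have e2 : ⁅v, w⁻¹ * a * w⁆ = ⁅v, a⁆ := by
      have hb := hB w⁻¹ (inv_mem hw) a ha
      have e3 : w⁻¹ * a * w = ⁅w⁻¹, a⁆ * a := by simp [commutatorElement_def, mul_assoc]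
      rw [e3]
      rcases hb with e' | e' <;> rw [e']
      · rw [one_mul]
      · simp only [commutatorElement_def, mul_inv_rev, Lx.inv_u]
        rw [show v * (x * a) = x * (v * a) by rw [← mul_assoc, Lx.comm v hv, mul_assoc]]
        rw [show x * (v * a) * v⁻¹ * (a⁻¹ * x) = x * (v * a * v⁻¹ * a⁻¹) * x by group]
        rw [← Lx.comm _ (mul_mem (mul_mem (mul_mem hv ha.1) (inv_mem hv)) (inv_mem ha.1)),
          mul_assoc, Lx.sq, mul_one]
    rw [e, e2]
    rcases Lx.commutator v hv a ha.1 with e' | e' <;> rw [e']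
    · simp
    · rw [hWx w hw, mul_inv_cancel_right]; exact Lx.sq
  have hWcomm : ∀ a ∈ W, ∀ b ∈ W, a * b = b * a := by
    intro a ha b hb
    rcases Lz.commute_or ha.1 hb.1 with e | e
    · exact e
    exfalso
    have hall : ∀ v ∈ Q x, v * z = z * v := by
      intro v hv
      refine hA v hv ?_
      have key : ∀ p ∈ W, ∀ q ∈ W, ∃ k : G, (k = 1 ∨ k = x) ∧
          p * q * v * (p * q)⁻¹ = k * (⁅q, v⁆ * (⁅p, v⁆ * v)) := by
        intro p hp q hq
        refine ⟨⁅p, ⁅q, v⁆⁆, hB p hp _ (hC q hq v hv), ?_⟩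
        simp only [commutatorElement_def]; group
      obtain ⟨k1, hk1, h1⟩ := key a ha b hb
      obtain ⟨k2, hk2, h2⟩ := key b hb a ha
      have hx' : ∀ k : G, (k = 1 ∨ k = x) → z * k * z = k := by
        intro k hk
        rcases hk with e' | e' <;> rw [e']
        · simp [Lz.sq]
        · rw [hzx, mul_assoc, Lz.sq, mul_one]
      -- the two products differ by a power of `x`
      obtain ⟨k3, hk3, h3⟩ : ∃ k3 : G, (k3 = 1 ∨ k3 = x) ∧
          ⁅b, v⁆ * ⁅a, v⁆ = k3 * (⁅a, v⁆ * ⁅b, v⁆) := by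
        rcases Lx.commute_or (hC b hb v hv).1 (hC a ha v hv).1 with e' | e'
        · exact ⟨1, Or.inl rfl, by rw [one_mul, e']⟩
        · exact ⟨x, Or.inr rfl, e'⟩
      rw [← mul_assoc (⁅b, v⁆), h3] at h1
      rw [← mul_assoc (⁅a, v⁆)] at h2
      have h5 : z * (b * a * v * (b * a)⁻¹) * z = a * b * v * (a * b)⁻¹ := by
        rw [e]; simp [mul_assoc, Lz.inv_u, mul_inv_rev]
      set N := b * a * v * (b * a)⁻¹ with hN
      have hNQ : N ∈ Q x := core_conj hQ
        (show Commute (b * a) x from Commute.mul_left (hWx b hb) (hWx a ha)).eq hv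
      -- so `z` centralises `N` modulo `x`
      have h6 : ∃ k : G, (k = 1 ∨ k = x) ∧ z * N * z = k * N := by
        rw [h1] at h5
        rw [h5, h2]
        have hkx : ∀ p q : G, (p = 1 ∨ p = x) → (q = 1 ∨ q = x) → (p * q = 1 ∨ p * q = x) := by
          intro p q hp hq
          rcases hp with e1 | e1 <;> rcases hq with e2 | e2 <;> simp [e1, e2, Lx.sq]
        refine ⟨k1 * k3 * k2, hkx _ _ (hkx _ _ hk1 hk3) hk2, ?_⟩
        have hk22 : k2 * k2 = 1 := by rcases hk2 with e' | e' <;> simp [e', Lx.sq]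
        simp only [mul_assoc]
        rw [← mul_assoc k2 k2, hk22, one_mul]
      obtain ⟨k, hk, h7⟩ := h6
      -- transport the conclusion back to `v`
      have h8 : z * v * z = k * v := by
        have hbz : ∀ p ∈ W, p * z = z * p := fun p hp => Lz.comm p hp.1
        have hba : (b * a) * z = z * (b * a) := hbz _ (mul_mem hb ha)
        have hbk : (b * a) * k = k * (b * a) := by
          rcases hk with e' | e' <;> rw [e']
          · simp
          · exact (show Commute (b * a) x from Commute.mul_left (hWx b hb) (hWx a ha)).eq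
        apply mul_left_cancel (a := b * a)
        apply mul_right_cancel (b := (b * a)⁻¹)
        have e9 : b * a * (z * v * z) * (b * a)⁻¹ = z * N * z := by
          have hba' : z * (b * a)⁻¹ = (b * a)⁻¹ * z := (show Commute z (b * a) from hba.symm).inv_right.eq
          calc b * a * (z * v * z) * (b * a)⁻¹ = (b * a * z) * v * (z * (b * a)⁻¹) := by group
            _ = (z * (b * a)) * v * ((b * a)⁻¹ * z) := by rw [hba, hba']
            _ = z * N * z := by rw [hN]; group
        rw [e9, h7, hN, ← mul_assoc (b * a) k v, hbk]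
        group
      have h9 : ⁅v, z⁆ = v * (k * v⁻¹) := by
        have hkk : k⁻¹ = k := by rcases hk with e' | e' <;> simp [e', Lx.inv_u]
        have : (z * v * z)⁻¹ = v⁻¹ * k := by rw [h8, mul_inv_rev, hkk]
        have hkv : k * v⁻¹ = v⁻¹ * k := by
          rcases hk with e' | e' <;> rw [e']
          · simp
          · exact (Lx.comm v⁻¹ (inv_mem hv)).symm
        rw [hkv, ← this, commutatorElement_def]
        simp [Lz.inv_u, mul_assoc]
      rw [h9]
      rcases hk with e' | e' <;> rw [e']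
      · simp
      · right; rw [← Lx.comm v⁻¹ (inv_mem hv), mul_inv_cancel_left]
    exact hzQ (Lx.centralizer_le z fun q hq => (hall q hq).symm)
  have hWS : ∀ w ∈ W, w ∈ S := fun w hw => hcentW w hw.1 fun w' hw' => hWcomm w hw w' hw'
  obtain ⟨q, hq, hqx⟩ := Lz.exists_not_commute hxQ hx1 hxz
  have hdecomp : ∀ r ∈ Q z, r ∈ W ∨ r * q⁻¹ ∈ W := by
    intro r hr
    rcases Lz.commute_or hr hxQ with e | e
    · exact Or.inl ⟨hr, Subgroup.mem_centralizer_singleton_iff.mpr e⟩
    · refine Or.inr ⟨mul_mem hr (Subgroup.inv_mem _ hq), Subgroup.mem_centralizer_singleton_iff.mpr ?_⟩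
      have hqi : q⁻¹ * x = z * (x * q⁻¹) := by
        have h1 : q * x * q⁻¹ = z * x := by rw [hqx]; simp [mul_assoc]
        have h2 : x * q⁻¹ = q⁻¹ * (z * x) := by rw [← h1]; group
        rw [h2, ← mul_assoc, ← mul_assoc, ← Lz.comm q⁻¹ (inv_mem hq), mul_assoc q⁻¹ z z, Lz.sq,
          mul_one]
      calc r * q⁻¹ * x = r * (z * (x * q⁻¹)) := by rw [mul_assoc, hqi]
        _ = z * (r * x) * q⁻¹ := by rw [← mul_assoc r, Lz.comm r hr]; group
        _ = z * (z * (x * r)) * q⁻¹ := by rw [e]
        _ = x * (r * q⁻¹) := by rw [← mul_assoc z z, Lz.sq, one_mul, mul_assoc]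
  have hUS : ∀ a ∈ U, a ∈ Q z := by
    intro a ha
    have hax : a * x = x * a := core_comm hQ ha.1
    have haS : ∀ w ∈ W, a * w = w * a := by
      intro w hw
      rcases hSmem w (hWS w hw) with e | e | e | e <;> rw [e]
      · simp
      · exact hUz a ha
      · exact hax
      · exact ((show Commute a z from hUz a ha).mul_right hax).eq
    have hcrit : ∀ c : G, (∀ w ∈ W, c * w = w * c) → c * q = q * c → c ∈ Q z := by
      intro c hcW hcq
      refine Lz.centralizer_le c fun r hr => ?_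
      rcases hdecomp r hr with h | h
      · exact hcW r h
      · have e : r = r * q⁻¹ * q := by group
        rw [e]
        exact ((show Commute c (r * q⁻¹) from hcW _ h).mul_right hcq).eq
    have hq' : a * q * a⁻¹ ∈ Q z := core_conj hQ (hUz a ha) hq
    have hw0 : a * q * a⁻¹ * q⁻¹ ∈ W := by
      rcases hdecomp _ hq' with h | h
      · exfalso
        have h1 : a * q * a⁻¹ * x = x * (a * q * a⁻¹) := hWx _ h
        have h2 : q * x = x * q := by
          have hax' : a⁻¹ * x = x * a⁻¹ := (show Commute a x from hax).inv_left.eq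
          rw [mul_assoc _ a⁻¹ x, hax', ← mul_assoc, mul_assoc a q x, ← mul_assoc x, ← mul_assoc x,
            ← hax, mul_assoc a x q] at h1
          exact mul_left_cancel (mul_right_cancel h1)
        rw [hqx] at h2
        exact Lz.ne_one (mul_eq_right.mp h2)
      · exact h
    set w0 := a * q * a⁻¹ * q⁻¹ with hw0def
    have haq : a * q = w0 * q * a := by rw [hw0def]; group
    have hsq : w0 * q * (w0 * q) = q * q := by
      have : w0 * q = a * q * a⁻¹ := by rw [hw0def]; group
      rw [this, show a * q * a⁻¹ * (a * q * a⁻¹) = a * (q * q) * a⁻¹ by group]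
      rcases Lz.sq_mem_center hq with e | e <;> rw [e]
      · simp
      · rw [hUz a ha, mul_inv_cancel_right]
    have hqx' : q * x = z * (x * q) := hqx
    rcases hSmem w0 (hWS w0 hw0) with e | e | e | e
    · refine hcrit a haS ?_
      rw [haq, e, one_mul]
    · -- `x * a` centralises `q`
      have hxa : x * a ∈ Q z := by
        refine hcrit _ (fun w hw => ((show Commute x w from (hWx w hw).symm).mul_left (haS w hw)).eq) ?_
        rw [mul_assoc, haq, e, ← mul_assoc, ← mul_assoc x, ← hzx, mul_assoc z x q, ← hqx',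
          ← mul_assoc q x a]
      have := mul_mem (inv_mem hxQ) hxa
      rwa [← mul_assoc, inv_mul_cancel, one_mul] at this
    · exfalso
      rw [e] at hsq
      have : x * q * (x * q) = z * (q * q) := by
        calc x * q * (x * q) = x * (q * x) * q := by group
          _ = x * z * (x * q) * q := by rw [hqx']; group
          _ = z * (x * x) * (q * q) := by rw [← hzx]; group
          _ = z * (q * q) := by rw [Lx.sq, mul_one]
      rw [this, mul_eq_right] at hsq
      exact Lz.ne_one hsq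
    · exfalso
      rw [e] at hsq
      have : z * x * q * (z * x * q) = z * (q * q) := by
        calc z * x * q * (z * x * q) = z * x * (q * z) * (x * q) := by group
          _ = z * x * (z * q) * (x * q) := by rw [Lz.comm q hq]
          _ = z * (x * z) * (q * x) * q := by group
          _ = z * (z * x) * (z * (x * q)) * q := by rw [← hzx, hqx']
          _ = (z * z) * (x * z) * (x * q * q) := by group
          _ = z * (x * x) * (q * q) := by rw [Lz.sq, ← hzx, one_mul]; group
          _ = z * (q * q) := by rw [Lx.sq, mul_one]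
      rw [this, mul_eq_right] at hsq
      exact Lz.ne_one hsq
  -- hence `[Q x, z] ≤ ⟨x⟩`, so `z` centralises `Q x`
  refine hzQ (Lx.centralizer_le z fun v hv => (hA v hv ?_).symm)
  have ht : ⁅v, z⁆ ∈ U := hTU (Subgroup.subset_closure (Set.mem_insert_of_mem _ ⟨v, hv, rfl⟩))
  have htW : ⁅v, z⁆ ∈ W :=
    ⟨hUS _ ht, Subgroup.mem_centralizer_singleton_iff.mpr (core_comm hQ ht.1)⟩
  exact hSQx _ (hWS _ htW) ht.1

end Cfsg.Agent.Sporadic96
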