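import Cfsg.Agent.Sporadic96.Singular

/-!
Singular subgroups: consequences of pairwise orthogonality.
-/

set_option autoImplicit false

open scoped Pointwise commutatorElement

namespace Cfsg.Agent.Sporadic96

variable {G : Type*} [Group G] {Q : G → Subgroup G} {U : Subgroup G}

/-- `U` is a singular subgroup for `Q`. -/
structure SingularSub (Q : G → Subgroup G) (U : Subgroup G) : Prop where
  sq : ∀ u ∈ U, u * u = 1
  large : ∀ u ∈ U, u ≠ 1 → LargeExtra (Q u) u
  orth : ∀ u ∈ U, ∀ v ∈ U, u ≠ 1 → v ≠ 1 → v ∈ Q u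

theorem singularSub_of_hyp (hQ : IsCoreMap Q) {z : G} (hz : orderOf z = 2)
    (hE : Cfsg.IsExtraspecial 2 ↥(Q z))
    (hC : Subgroup.centralizer ((Q z : Subgroup G) : Set G) ≤ Q z) (hU2 : ∀ u ∈ U, u * u = 1)
    (hS : ∀ u ∈ U, u ≠ 1 → ∃ g : G, g * z * g⁻¹ = u)
    (hO : ∀ u ∈ U, ∀ v ∈ U, u ≠ 1 → v ≠ 1 → v ∈ Q u) : SingularSub Q U :=
  ⟨hU2, fun u hu hu1 => by
    obtain ⟨g, rfl⟩ := hS u hu hu1
    exact largeExtra_of_conj hQ hz hE hC g, hO⟩

theorem mem_biInf {T : Set G} {Q : G → Subgroup G} {x : G} :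
    x ∈ ⨅ t ∈ T, Q t ↔ ∀ t ∈ T, x ∈ Q t := by
  simp [Subgroup.mem_iInf]

namespace SingularSub

variable (h : SingularSub Q U)
include h

theorem mem_all {u w : G} (hu : u ∈ U) (hu1 : u ≠ 1) (hw : w ∈ U) : w ∈ Q u := by
  by_cases hw1 : w = 1
  · rw [hw1]; exact (Q u).one_mem
  · exact h.orth u hu w hw hu1 hw1

/-- An element of `Q u` conjugates each element of `U` into `U`. -/
theorem conj_mem {u q w : G} (hu : u ∈ U) (hu1 : u ≠ 1) (hq : q ∈ Q u) (hw : w ∈ U) :
    q * w * q⁻¹ ∈ U := by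
  have L := h.large u hu hu1
  rcases L.commute_or hq (h.mem_all hu hu1 hw) with e | e <;> rw [e]
  · simpa [mul_assoc] using hw
  · simpa [mul_assoc] using mul_mem hu hw

theorem core_le_normalizer {u : G} (hu : u ∈ U) (hu1 : u ≠ 1) :
    Q u ≤ Subgroup.normalizer (U : Set G) := by
  intro q hq
  rw [Subgroup.mem_normalizer_iff]
  intro w
  refine ⟨fun hw => h.conj_mem hu hu1 hq hw, fun hw => ?_⟩
  have := h.conj_mem hu hu1 (inv_mem hq) hw
  simpa [mul_assoc] using this

theorem sup_le_normalizer :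
    (⨆ u ∈ ((U : Set G) \ {1}), Q u) ≤ Subgroup.normalizer (U : Set G) :=
  iSup₂_le fun _ hu => h.core_le_normalizer hu.1 hu.2

theorem le_inf : U ≤ ⨅ u ∈ ((U : Set G) \ {1}), Q u := fun _ hw =>
  mem_biInf.mpr fun _ ht => h.mem_all ht.1 ht.2 hw

theorem inf_le_mul [Finite G] (hQ : IsCoreMap Q) {s t : G} (hs : s ∈ U) (ht : t ∈ U)
    (hs1 : s ≠ 1) (ht1 : t ≠ 1) (hst : s * t ≠ 1) {r : G} (hrs : r ∈ Q s) (hrt : r ∈ Q t) :
    r ∈ Q (s * t) := by
  have L := h.large s hs hs1
  have hts : t ≠ s := by rintro rfl; exact hst (h.sq t ht)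
  obtain ⟨q, hq, hqt⟩ := L.exists_not_commute (h.mem_all hs hs1 ht) ht1 hts
  have e : q * t * q⁻¹ = s * t := by rw [hqt]; simp [mul_assoc]
  have hr' : q⁻¹ * r * q ∈ Q t := by
    rcases L.commute_or hrs hq with e' | e'
    · rw [mul_assoc, e', ← mul_assoc, inv_mul_cancel, one_mul]; exact hrt
    · have : q⁻¹ * r * q = s * r := by
        rw [mul_assoc, e', ← mul_assoc, L.comm _ (inv_mem hq), mul_assoc, inv_mul_cancel_left]
      rw [this]; exact mul_mem (h.mem_all ht ht1 hs) hrt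
  have := conj_mem_core hQ (g := q) hr'
  rw [e] at this
  simpa [mul_assoc] using this

theorem inf_eq_of_generators [Finite G] (hQ : IsCoreMap Q) {T : Set G}
    (hT : Subgroup.closure T = U) (hT1 : (1 : G) ∉ T) :
    (⨅ u ∈ ((U : Set G) \ {1}), Q u) = ⨅ t ∈ T, Q t := by
  have hTU : ∀ t ∈ T, t ∈ U := fun t ht => hT ▸ Subgroup.subset_closure ht
  apply le_antisymm
  · exact le_iInf₂ fun t ht => iInf₂_le t ⟨hTU t ht, fun e => hT1 (e ▸ ht)⟩
  · intro r hr
    rw [mem_biInf] at hr ⊢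
    have key : ∀ u ∈ Subgroup.closure T, u ∈ U ∧ (u ≠ 1 → r ∈ Q u) := by
      intro u hu
      induction hu using Subgroup.closure_induction with
      | mem x hx => exact ⟨hTU x hx, fun _ => hr x hx⟩
      | one => exact ⟨U.one_mem, fun e => absurd rfl e⟩
      | mul a b _ _ iha ihb =>
        refine ⟨mul_mem iha.1 ihb.1, fun hab => ?_⟩
        by_cases ha : a = 1
        · subst ha; rw [one_mul] at hab ⊢; exact ihb.2 hab
        by_cases hb : b = 1
        · subst hb; rw [mul_one] at hab ⊢; exact iha.2 hab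
        exact h.inf_le_mul hQ iha.1 ihb.1 ha hb hab (iha.2 ha) (ihb.2 hb)
      | inv a _ iha =>
        rw [inv_eq_iff_mul_eq_one.mpr (h.sq a iha.1)]
        exact iha
    exact fun u hu => (key u (hT.symm ▸ hu.1)).2 hu.2

/-- The join of the `Q u` realises every automorphism of `U`. -/
theorem induces_aut [Finite G] (L : Subgroup G) (hL : ∀ u ∈ U, u ≠ 1 → Q u ≤ L) :
    ∀ φ : ↥U ≃* ↥U, ∃ g ∈ L, ∀ u : ↥U, g * (u : G) * g⁻¹ = ((φ u : ↥U) : G) := by
  suffices H : ∀ (n : ℕ) (φ : ↥U ≃* ↥U),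
      Nat.card U - Set.ncard {u : U | φ u = u} ≤ n →
        ∃ g ∈ L, ∀ u : ↥U, g * (u : G) * g⁻¹ = ((φ u : ↥U) : G) from fun φ => H _ φ le_rfl
  intro n
  induction n with
  | zero =>
    intro φ hn
    refine ⟨1, L.one_mem, fun u => ?_⟩
    have hall : {u : U | φ u = u} = Set.univ := Set.eq_of_subset_of_ncard_le (Set.subset_univ _)
      (by rw [Set.ncard_univ]; omega) (Set.toFinite _)
    have : u ∈ {u : U | φ u = u} := hall ▸ Set.mem_univ u
    simp [show φ u = u from this]
  | succ n ih =>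
    intro φ hn
    by_cases hall : ∀ u, φ u = u
    · exact ⟨1, L.one_mem, fun u => by simp [hall u]⟩
    push Not at hall
    obtain ⟨v, hv⟩ := hall
    set w := φ v with hw
    have hUcomm : ∀ a b : U, a * b = b * a := fun a b => by
      have ha : ∀ a : U, a⁻¹ = a := fun a =>
        inv_eq_iff_mul_eq_one.mpr (Subtype.ext (h.sq a a.2))
      calc a * b = (a * b)⁻¹ := (ha _).symm
        _ = b * a := by rw [mul_inv_rev, ha, ha]
    let H : Subgroup U :=
      { carrier := {u | φ u = u}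
        one_mem' := map_one φ
        mul_mem' := fun {a b} ha hb => by
          simp only [Set.mem_setOf_eq] at ha hb ⊢; rw [map_mul, ha, hb]
        inv_mem' := fun {a} ha => by
          simp only [Set.mem_setOf_eq] at ha ⊢; rw [map_inv, ha] }
    have hvH : v ∉ H := hv
    have hwH : w ∉ H := fun hwH => hv (φ.injective hwH)
    set u0 : U := v * w with hu0def
    have hsqU : ∀ a : U, a * a = 1 := fun a => Subtype.ext (h.sq a a.2)
    have hu0 : (u0 : G) ≠ 1 := by
      intro e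
      have e' : v * w = 1 := Subtype.ext e
      exact hv ((mul_left_cancel ((hsqU v).trans e'.symm)).symm)
    have hvS : v ∉ H ⊔ Subgroup.zpowers u0 := by
      have hle : H ⊔ Subgroup.zpowers u0 ≤
          { carrier := {a | a ∈ H ∨ a * u0 ∈ H}
            one_mem' := Or.inl H.one_mem
            mul_mem' := by
              rintro a b (ha | ha) (hb | hb)
              · exact Or.inl (mul_mem ha hb)
              · exact Or.inr (by rw [mul_assoc]; exact mul_mem ha hb)
              · exact Or.inr (by rw [mul_assoc, hUcomm b u0, ← mul_assoc]; exact mul_mem ha hb)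
              · refine Or.inl ?_
                have := mul_mem ha hb
                rwa [hUcomm b u0, mul_assoc, ← mul_assoc u0 u0, hsqU, one_mul] at this
            inv_mem' := fun {a} ha => by
              rw [Set.mem_setOf_eq, inv_eq_iff_mul_eq_one.mpr (hsqU a)]; exact ha } :=
        sup_le (fun a ha => Or.inl ha)
          (Subgroup.zpowers_le.mpr (Or.inr (by rw [hsqU]; exact H.one_mem)))
      intro hm
      rcases hle hm with e | e
      · exact hvH e
      · rw [hu0def, ← mul_assoc, hsqU, one_mul] at e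
        exact hwH e
    set S : Subgroup G := (H ⊔ Subgroup.zpowers u0).map U.subtype with hS
    have hu0S : (u0 : G) ∈ S :=
      ⟨u0, (le_sup_right : Subgroup.zpowers u0 ≤ _) (Subgroup.mem_zpowers u0), rfl⟩
    have hSQ : S ≤ Q u0 := by
      rintro _ ⟨a, -, rfl⟩
      exact h.mem_all u0.2 hu0 a.2
    obtain ⟨q, hq, hqS, hqv⟩ := (h.large u0 u0.2 hu0).exists_mover hSQ hu0S
      (v := (v : G)) (h.mem_all u0.2 hu0 v.2) (by
        rintro ⟨a, ha, e⟩
        exact hvS (Subtype.ext e ▸ ha))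
    have hqvw : q * (v : G) * q⁻¹ = w := by
      rw [hqv]
      show ((u0 * v : U) : G) = (w : G)
      rw [hu0def, hUcomm v w, mul_assoc, hsqU, mul_one]
    let c : U ≃* U :=
      { toFun := fun a => ⟨q⁻¹ * a * q, by
          simpa using h.conj_mem u0.2 hu0 (inv_mem hq) a.2⟩
        invFun := fun a => ⟨q * a * q⁻¹, h.conj_mem u0.2 hu0 hq a.2⟩
        left_inv := fun a => by ext; simp [mul_assoc]
        right_inv := fun a => by ext; simp [mul_assoc]
        map_mul' := fun a b => by ext; simp [mul_assoc] }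
    have hsub : {u : U | φ u = u} ⊂ {u : U | (φ.trans c) u = u} := by
      rw [Set.ssubset_iff_of_subset]
      · refine ⟨v, ?_, hv⟩
        ext
        show q⁻¹ * (w : G) * q = v
        rw [← hqvw]; group
      · intro a ha
        simp only [Set.mem_setOf_eq] at ha ⊢
        ext
        show q⁻¹ * ((φ a : U) : G) * q = a
        rw [ha, mul_assoc, ← hqS a ⟨a, (le_sup_left : H ≤ _) ha, rfl⟩, inv_mul_cancel_left]
    have hlt := Set.ncard_lt_ncard hsub (Set.toFinite _)
    obtain ⟨g, hg, hgc⟩ := ih (φ.trans c) (by omega)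
    refine ⟨q * g, mul_mem (hL u0 u0.2 hu0 hq) hg, fun u => ?_⟩
    have := hgc u
    calc q * g * (u : G) * (q * g)⁻¹ = q * (g * u * g⁻¹) * q⁻¹ := by group
      _ = q * (q⁻¹ * ((φ u : U) : G) * q) * q⁻¹ := by rw [this]; rfl
      _ = _ := by group

theorem commutator_mem {g x : G}
    (hg : g ∈ ⨆ u ∈ ((U : Set G) \ {1}), Q u) (hx : x ∈ ⨅ u ∈ ((U : Set G) \ {1}), Q u) :
    g * x * g⁻¹ * x⁻¹ ∈ U := by
  have hN := h.sup_le_normalizer
  revert x
  rw [iSup_subtype'] at hg
  induction hg using Subgroup.iSup_induction' with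
  | hp t q hq =>
    intro x hx
    have L := h.large t.1 t.2.1 t.2.2
    have hxt := mem_biInf.mp hx t.1 t.2
    rcases L.commutator q hq x hxt with e | e <;>
      (rw [show q * x * q⁻¹ * x⁻¹ = ⁅q, x⁆ from (commutatorElement_def q x).symm, e])
    · exact U.one_mem
    · exact t.2.1
  | h1 => intro x _; simp
  | hmul a b ha hb iha ihb =>
    intro x hx
    have h1 := ihb hx
    have h2 := iha hx
    have haN : a ∈ Subgroup.normalizer (U : Set G) := hN (by rw [iSup_subtype']; exact ha)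
    have h3 := (Subgroup.mem_normalizer_iff.mp haN _).mp h1
    have := mul_mem h3 h2
    simpa [mul_assoc] using this

theorem exists_shift [Finite G] {L : Subgroup G} (hL : ∀ u ∈ U, u ≠ 1 → Q u ≤ L) {x u : G}
    (hx : x ∈ ⨅ u ∈ ((U : Set G) \ {1}), Q u) (hxU : x ∉ U) (hu : u ∈ U) :
    ∃ g ∈ L ⊓ Subgroup.centralizer (U : Set G), g * x * g⁻¹ = x * u := by
  by_cases hu1 : u = 1
  · exact ⟨1, one_mem _, by simp [hu1]⟩
  have Lu := h.large u hu hu1
  have hxu := mem_biInf.mp hx u ⟨hu, hu1⟩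
  obtain ⟨g, hg, hgU, hgx⟩ := Lu.exists_mover (fun w hw => h.mem_all hu hu1 hw) hu hxu hxU
  exact ⟨g, ⟨hL u hu hu1 hg, fun w hw => (hgU w hw).symm⟩, by rw [hgx, Lu.comm x hxu]⟩

end SingularSub

end Cfsg.Agent.Sporadic96
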