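import Mathlib
import Cfsg.Prelude.Def_Transfer
import Cfsg.Prelude.Def_Solvable

/-!
Singular involutions of a large extraspecial 2-subgroup (after S. Smith): the relation
`x ∈ Q y` on conjugates of `z` is symmetric, and its consequences for singular subgroups.
-/

set_option autoImplicit false

open scoped Pointwise commutatorElement

namespace Cfsg.Agent.Sporadic96

variable {G : Type*} [Group G]

/-- `Q` assigns to each element the 2-core of its centraliser. -/
def IsCoreMap (Q : G → Subgroup G) : Prop :=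
  ∀ x : G, Q x = (Cfsg.pCore 2 ↥(Subgroup.centralizer ({x} : Set G))).map
    (Subgroup.centralizer ({x} : Set G)).subtype

theorem pCore_isPGroup [Finite G] {p : ℕ} [Fact p.Prime] : IsPGroup p (Cfsg.pCore p G) := by
  obtain ⟨P⟩ : Nonempty (Sylow p G) := inferInstance
  refine P.isPGroup'.to_le (sSup_le ?_)
  rintro N ⟨hN, hp⟩
  obtain ⟨R, hR⟩ := hp.exists_le_sylow
  obtain ⟨g, hg⟩ := MulAction.exists_smul_eq G R P
  intro n hn
  have h1 : g⁻¹ * n * (g⁻¹)⁻¹ ∈ R := hR (hN.conj_mem n hn g⁻¹)
  have h2 : MulAut.conj g (g⁻¹ * n * (g⁻¹)⁻¹) ∈ g • R := by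
    show _ ∈ MulAut.conj g • (R : Subgroup G)
    exact Subgroup.smul_mem_pointwise_smul _ _ _ h1
  rw [hg] at h2
  show n ∈ (P : Subgroup G)
  have e : MulAut.conj g (g⁻¹ * n * (g⁻¹)⁻¹) = n := by simp [MulAut.conj_apply, mul_assoc]
  rw [e] at h2
  exact h2

theorem pCore_le_comap_conj (p : ℕ) (g : G) :
    Cfsg.pCore p G ≤ (Cfsg.pCore p G).comap (MulAut.conj g).toMonoidHom := by
  refine sSup_le ?_
  rintro N ⟨hN, hp⟩ n hn
  exact (le_sSup (α := Subgroup G) (s := {N | N.Normal ∧ IsPGroup p N}) ⟨hN, hp⟩)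
    (hN.conj_mem n hn g)

theorem eq_or_eq_of_card_two {H : Subgroup G} (hc : Nat.card H = 2) {u : G} (hu : u ∈ H) (hu1 : u ≠ 1)
    {y : G} (hy : y ∈ H) : y = 1 ∨ y = u := by
  haveI : Finite H := Nat.finite_of_card_ne_zero (by omega)
  obtain ⟨a, b, -, hab⟩ := Nat.card_eq_two_iff.mp hc
  have h : ∀ k : H, k = a ∨ k = b := fun k => by
    have : k ∈ ({a, b} : Set H) := by rw [hab]; trivial
    simpa using this
  rcases h ⟨y, hy⟩ with h1 | h1 <;> rcases h ⟨u, hu⟩ with h2 | h2 <;>
    rcases h 1 with h3 | h3 <;> simp only [Subtype.ext_iff, OneMemClass.coe_one] at h1 h2 h3 <;>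
    simp_all

/-- A large extraspecial subgroup `Q` with central involution `u`, as element-wise facts. -/
structure LargeExtra (Q : Subgroup G) (u : G) : Prop where
  ne_one : u ≠ 1
  sq : u * u = 1
  mem : u ∈ Q
  comm : ∀ q ∈ Q, q * u = u * q
  center : ∀ q ∈ Q, (∀ r ∈ Q, q * r = r * q) → q = 1 ∨ q = u
  commutator : ∀ a ∈ Q, ∀ b ∈ Q, ⁅a, b⁆ = 1 ∨ ⁅a, b⁆ = u
  centralizer_le : ∀ c : G, (∀ q ∈ Q, c * q = q * c) → c ∈ Q

namespace LargeExtra

variable {Q : Subgroup G} {u : G} (h : LargeExtra Q u)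
include h

theorem inv_u : u⁻¹ = u := inv_eq_iff_mul_eq_one.mpr h.sq

theorem commute_or {a b : G} (ha : a ∈ Q) (hb : b ∈ Q) : a * b = b * a ∨ a * b = u * (b * a) := by
  rcases h.commutator a ha b hb with h1 | h1
  · exact Or.inl (commutatorElement_eq_one_iff_mul_comm.mp h1)
  · right
    rw [← h1, commutatorElement_def]
    simp [mul_assoc]

theorem commutator_comm {a b : G} (ha : a ∈ Q) (hb : b ∈ Q) {q : G} (hq : q ∈ Q) :
    q * ⁅a, b⁆ = ⁅a, b⁆ * q := by
  rcases h.commutator a ha b hb with h1 | h1 <;> rw [h1]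
  · simp
  · exact h.comm q hq

theorem commutator_mul_left {a b c : G} (ha : a ∈ Q) (hb : b ∈ Q) (hc : c ∈ Q) :
    ⁅a * b, c⁆ = ⁅a, c⁆ * ⁅b, c⁆ := by
  have h1 : ⁅a * b, c⁆ = a * ⁅b, c⁆ * a⁻¹ * ⁅a, c⁆ := by
    simp only [commutatorElement_def]; group
  rw [h1, h.commutator_comm hb hc ha, mul_inv_cancel_right]
  exact h.commutator_comm ha hc (by
    rcases h.commutator b hb c hc with e | e <;> rw [e]
    · exact Q.one_mem
    · exact h.mem)

theorem commutator_inv_left {a c : G} (ha : a ∈ Q) (hc : c ∈ Q) : ⁅a⁻¹, c⁆ = ⁅a, c⁆ := by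
  have h1 := h.commutator_mul_left (inv_mem ha) ha hc
  rw [inv_mul_cancel, commutatorElement_one_left] at h1
  rcases h.commutator a ha c hc with e | e <;> rw [e] at h1 ⊢
  · rw [mul_one] at h1; exact h1.symm
  · rw [eq_comm, mul_eq_one_iff_eq_inv, h.inv_u] at h1; exact h1

theorem sq_mem_center {a : G} (ha : a ∈ Q) : a * a = 1 ∨ a * a = u := by
  refine h.center _ (mul_mem ha ha) fun r hr => commutatorElement_eq_one_iff_mul_comm.mp ?_
  rw [h.commutator_mul_left ha ha hr]
  rcases h.commutator a ha r hr with e | e <;> rw [e]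
  · simp
  · exact h.sq

theorem exists_not_commute {v : G} (hv : v ∈ Q) (hv1 : v ≠ 1) (hvu : v ≠ u) :
    ∃ q ∈ Q, q * v = u * (v * q) := by
  by_contra hne
  rcases h.center v hv (fun r hr => by
    rcases h.commute_or hr hv with e | e
    · exact e.symm
    · exact absurd ⟨r, hr, e⟩ hne) with e | e
  · exact hv1 e
  · exact hvu e

theorem card_inf_centralizer_step [Finite G] (S : Subgroup G) {v : G} (hv : v ∈ Q) :
    Nat.card ↥(Q ⊓ Subgroup.centralizer (S : Set G)) ≤
      2 * Nat.card ↥(Q ⊓ Subgroup.centralizer (S : Set G) ⊓ Subgroup.centralizer ({v} : Set G)) := by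
  let K := Q ⊓ Subgroup.centralizer (S : Set G)
  let f : K →* G :=
    { toFun := fun a => ⁅(a : G), v⁆
      map_one' := by simp
      map_mul' := fun a b => h.commutator_mul_left a.2.1 b.2.1 hv }
  have h1 : (K ⊓ Subgroup.centralizer ({v} : Set G)).subgroupOf K = f.ker := by
    ext a
    simp only [Subgroup.mem_subgroupOf, Subgroup.mem_inf, SetLike.coe_mem, true_and,
      Subgroup.mem_centralizer_singleton_iff, MonoidHom.mem_ker]
    exact commutatorElement_eq_one_iff_mul_comm.symm
  have h2 : Nat.card ↥(K ⊓ Subgroup.centralizer ({v} : Set G)) = Nat.card f.ker := by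
    rw [← h1]
    exact (Nat.card_congr (Subgroup.subgroupOfEquivOfLe inf_le_left).toEquiv).symm
  have h3 : Nat.card f.range ≤ 2 := by
    have hsub : (f.range : Set G) ⊆ {1, u} := by
      rintro _ ⟨a, rfl⟩
      exact h.commutator _ a.2.1 v hv
    calc Nat.card f.range = Set.ncard (f.range : Set G) := rfl
      _ ≤ Set.ncard ({1, u} : Set G) := Set.ncard_le_ncard hsub (Set.toFinite _)
      _ ≤ 2 := (Set.ncard_insert_le _ _).trans (by simp)
  have h4 : Nat.card K = Nat.card f.range * Nat.card f.ker := by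
    rw [Subgroup.card_eq_card_quotient_mul_card_subgroup f.ker]
    congr 1
    exact Nat.card_congr (QuotientGroup.quotientKerEquivRange f).toEquiv
  show Nat.card K ≤ 2 * Nat.card ↥(K ⊓ Subgroup.centralizer ({v} : Set G))
  rw [h2, h4]
  exact Nat.mul_le_mul_right _ h3

/-- `|S| |C_Q(S)|` does not decrease as `S` grows. -/
theorem phi_mono [Finite G] (n : ℕ) : ∀ S T : Subgroup G, S ≤ T → T ≤ Q →
    Nat.card T - Nat.card S ≤ n →
    Nat.card S * Nat.card ↥(Q ⊓ Subgroup.centralizer (S : Set G)) ≤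
      Nat.card T * Nat.card ↥(Q ⊓ Subgroup.centralizer (T : Set G)) := by
  induction n with
  | zero =>
    intro S T hST _ hn
    rw [Subgroup.eq_of_le_of_card_ge hST (by omega)]
  | succ n ih =>
    intro S T hST hTQ hn
    by_cases heq : S = T
    · rw [heq]
    obtain ⟨v, hvT, hvS⟩ := SetLike.not_le_iff_exists.mp (fun hle => heq (le_antisymm hST hle))
    set S' := S ⊔ Subgroup.zpowers v with hS'
    have hlt : S < S' := lt_of_le_of_ne le_sup_left (fun e => hvS (e ▸ (le_sup_right : _ ≤ S')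
      (Subgroup.mem_zpowers v)))
    have hS'T : S' ≤ T := sup_le hST (Subgroup.zpowers_le.mpr hvT)
    have hcard : 2 * Nat.card S ≤ Nat.card S' := by
      obtain ⟨k, hk⟩ := Subgroup.card_dvd_of_le hlt.le
      have hne : Nat.card S' ≠ Nat.card S := fun e =>
        hlt.ne (Subgroup.eq_of_le_of_card_ge hlt.le e.le)
      have hk2 : 2 ≤ k := by
        rcases k with _ | _ | k
        · have : 0 < Nat.card S' := Nat.card_pos
          simp [hk] at this
        · exact absurd (by simpa using hk) hne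
        · omega
      rw [hk, Nat.mul_comm]
      exact Nat.mul_le_mul_left _ hk2
    have hpos : 0 < Nat.card S := Nat.card_pos
    have hstep := h.card_inf_centralizer_step S (hTQ hvT)
    have hle : Q ⊓ Subgroup.centralizer (S : Set G) ⊓ Subgroup.centralizer ({v} : Set G) ≤
        Q ⊓ Subgroup.centralizer (S' : Set G) := by
      rintro a ⟨⟨haQ, haS⟩, hav⟩
      refine ⟨haQ, ?_⟩
      have hle' : S' ≤ Subgroup.centralizer ({a} : Set G) := by
        refine sup_le (fun s hs => ?_) (Subgroup.zpowers_le.mpr ?_)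
        · exact Subgroup.mem_centralizer_singleton_iff.mpr (haS s hs)
        · exact Subgroup.mem_centralizer_singleton_iff.mpr
            (Subgroup.mem_centralizer_singleton_iff.mp hav).symm
      exact fun s hs => Subgroup.mem_centralizer_singleton_iff.mp (hle' hs)
    calc Nat.card S * Nat.card ↥(Q ⊓ Subgroup.centralizer (S : Set G))
        ≤ Nat.card S * (2 * Nat.card ↥(Q ⊓ Subgroup.centralizer (S' : Set G))) :=
          Nat.mul_le_mul_left _ (hstep.trans (Nat.mul_le_mul_left _ (Subgroup.card_le_of_le hle)))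
      _ = (2 * Nat.card S) * Nat.card ↥(Q ⊓ Subgroup.centralizer (S' : Set G)) := by ring
      _ ≤ Nat.card S' * Nat.card ↥(Q ⊓ Subgroup.centralizer (S' : Set G)) :=
          Nat.mul_le_mul_right _ hcard
      _ ≤ _ := ih S' T hS'T hTQ (by
          have := Subgroup.card_le_of_le hS'T
          omega)

/-- Double centraliser property inside `Q`. -/
theorem double_centralizer [Finite G] {S : Subgroup G} (hS : S ≤ Q) (hu : u ∈ S) {v : G}
    (hv : v ∈ Q) (hvS : ∀ a ∈ Q, (∀ s ∈ S, a * s = s * a) → a * v = v * a) : v ∈ S := by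
  by_contra hvn
  set Z := Subgroup.zpowers u
  set S' := S ⊔ Subgroup.zpowers v
  have hlt : S < S' := lt_of_le_of_ne le_sup_left (fun e => hvn (e ▸ (le_sup_right : _ ≤ S')
    (Subgroup.mem_zpowers v)))
  have hsame : Q ⊓ Subgroup.centralizer (S : Set G) ≤ Q ⊓ Subgroup.centralizer (S' : Set G) := by
    rintro a ⟨haQ, haS⟩
    refine ⟨haQ, ?_⟩
    have hle' : S' ≤ Subgroup.centralizer ({a} : Set G) := by
      refine sup_le (fun s hs => ?_) (Subgroup.zpowers_le.mpr ?_)
      · exact Subgroup.mem_centralizer_singleton_iff.mpr (haS s hs)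
      · exact Subgroup.mem_centralizer_singleton_iff.mpr
          (hvS a haQ (fun s hs => (haS s hs).symm)).symm
    exact fun s hs => Subgroup.mem_centralizer_singleton_iff.mp (hle' hs)
  have hcl : Nat.card S < Nat.card S' := by
    refine lt_of_le_of_ne (Subgroup.card_le_of_le hlt.le) fun e => ?_
    exact hlt.ne (Subgroup.eq_of_le_of_card_ge hlt.le e.symm.le)
  have h1 := h.phi_mono _ Z S (Subgroup.zpowers_le.mpr hu) hS le_rfl
  have h2 := h.phi_mono _ S' Q (sup_le hS (Subgroup.zpowers_le.mpr hv)) le_rfl le_rfl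
  have hZ : Nat.card Z = 2 := by
    rw [Nat.card_zpowers]
    exact orderOf_eq_prime (by rw [pow_two, h.sq]) h.ne_one
  have hQZ : Q ⊓ Subgroup.centralizer (Q : Set G) = Z := by
    refine le_antisymm ?_ (Subgroup.zpowers_le.mpr ⟨h.mem, fun q hq => h.comm q hq⟩)
    rintro a ⟨haQ, ha⟩
    rcases h.center a haQ (fun r hr => (ha r hr).symm) with e | e <;> rw [e]
    · exact Z.one_mem
    · exact Subgroup.mem_zpowers u
  have hZQ : Q ⊓ Subgroup.centralizer (Z : Set G) = Q := by
    refine inf_eq_left.mpr fun q hq s hs => ?_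
    obtain ⟨k, rfl⟩ := Subgroup.mem_zpowers_iff.mp hs
    exact ((show Commute q u from h.comm q hq).zpow_right k).eq.symm
  rw [hQZ, hZ] at h2
  rw [hZQ, hZ] at h1
  have h3 : Nat.card S * Nat.card ↥(Q ⊓ Subgroup.centralizer (S : Set G)) <
      Nat.card S' * Nat.card ↥(Q ⊓ Subgroup.centralizer (S' : Set G)) :=
    lt_of_le_of_lt (Nat.mul_le_mul_left _ (Subgroup.card_le_of_le hsame))
      (Nat.mul_lt_mul_of_pos_right hcl Nat.card_pos)
  linarith

/-- An element of `Q` centralising `S` but moving `v ∉ S`, to `u * v`. -/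
theorem exists_mover [Finite G] {S : Subgroup G} (hS : S ≤ Q) (hu : u ∈ S) {v : G} (hv : v ∈ Q)
    (hvS : v ∉ S) : ∃ a ∈ Q, (∀ s ∈ S, a * s = s * a) ∧ a * v * a⁻¹ = u * v := by
  by_contra hne
  refine hvS (h.double_centralizer hS hu hv fun a ha has => ?_)
  rcases h.commute_or ha hv with e | e
  · exact e
  · exfalso
    refine hne ⟨a, ha, has, ?_⟩
    rw [e]; simp [mul_assoc]

end LargeExtra

section CoreMap

variable {Q : G → Subgroup G} (hQ : IsCoreMap Q)
include hQ

theorem core_le {x : G} : Q x ≤ Subgroup.centralizer ({x} : Set G) := by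
  rw [hQ x]; exact Subgroup.map_subtype_le _

theorem core_comm {x q : G} (hq : q ∈ Q x) : q * x = x * q :=
  Subgroup.mem_centralizer_singleton_iff.mp (core_le hQ hq)

theorem core_conj {x c q : G} (hc : c * x = x * c) (hq : q ∈ Q x) : c * q * c⁻¹ ∈ Q x := by
  rw [hQ x] at hq ⊢
  obtain ⟨q', hq', rfl⟩ := hq
  refine ⟨MulAut.conj (⟨c, Subgroup.mem_centralizer_singleton_iff.mpr hc⟩ :
    Subgroup.centralizer ({x} : Set G)) q', pCore_le_comap_conj 2 _ hq', ?_⟩
  simp [MulAut.conj_apply]

theorem core_isPGroup [Finite G] (x : G) : IsPGroup 2 (Q x) := by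
  haveI : Fact (Nat.Prime 2) := ⟨Nat.prime_two⟩
  rw [hQ x]
  exact pCore_isPGroup.map _

theorem core_map_conj (x g : G) :
    Q (g * x * g⁻¹) = (Q x).map (MulAut.conj g).toMonoidHom := by
  have key : ∀ (x g : G), (Q x).map (MulAut.conj g).toMonoidHom ≤ Q (g * x * g⁻¹) := by
    intro x g
    have hmem : ∀ c ∈ Subgroup.centralizer ({g * x * g⁻¹} : Set G),
        g⁻¹ * c * g ∈ Subgroup.centralizer ({x} : Set G) := by
      intro c hc
      rw [Subgroup.mem_centralizer_singleton_iff] at hc ⊢
      calc g⁻¹ * c * g * x = g⁻¹ * (c * (g * x * g⁻¹)) * g := by group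
        _ = g⁻¹ * (g * x * g⁻¹ * c) * g := by rw [hc]
        _ = x * (g⁻¹ * c * g) := by group
    let φ : Subgroup.centralizer ({g * x * g⁻¹} : Set G) →* Subgroup.centralizer ({x} : Set G) :=
      { toFun := fun c => ⟨g⁻¹ * c * g, hmem c c.2⟩
        map_one' := by ext; simp
        map_mul' := fun a b => by ext; simp [mul_assoc] }
    have hφ : Function.Injective φ := fun a b hab => by
      have := congrArg Subtype.val hab
      simp only [φ, MonoidHom.coe_mk, OneHom.coe_mk] at this
      exact Subtype.ext (mul_left_cancel (mul_right_cancel this))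
    have hle : (Cfsg.pCore 2 ↥(Subgroup.centralizer ({x} : Set G))).comap φ ≤
        Cfsg.pCore 2 ↥(Subgroup.centralizer ({g * x * g⁻¹} : Set G)) := by
      have hsur : Function.Surjective φ := by
        intro d
        have hd : (d : G) * x = x * d := Subgroup.mem_centralizer_singleton_iff.mp d.2
        refine ⟨⟨g * d * g⁻¹, Subgroup.mem_centralizer_singleton_iff.mpr ?_⟩,
          Subtype.ext (by simp [φ, mul_assoc])⟩
        calc g * d * g⁻¹ * (g * x * g⁻¹) = g * (d * x) * g⁻¹ := by group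
          _ = g * (x * d) * g⁻¹ := by rw [hd]
          _ = g * x * g⁻¹ * (g * d * g⁻¹) := by group
      let e := MulEquiv.ofBijective φ ⟨hφ, hsur⟩
      have hcomap : (Cfsg.pCore 2 ↥(Subgroup.centralizer ({x} : Set G))).comap φ =
          (Cfsg.pCore 2 ↥(Subgroup.centralizer ({x} : Set G))).map e.symm.toMonoidHom :=
        (Subgroup.map_equiv_eq_comap_symm e.symm _).symm
      rw [hcomap, Cfsg.pCore, sSup_eq_iSup, Subgroup.map_iSup]
      refine iSup_le fun N => ?_
      rw [Subgroup.map_iSup]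
      refine iSup_le fun hN => le_sSup ?_
      exact ⟨hN.1.map _ e.symm.surjective, hN.2.map _⟩
    intro y hy
    obtain ⟨q, hq, rfl⟩ := hy
    have hq' := hq
    rw [SetLike.mem_coe, hQ x] at hq'
    obtain ⟨q', hq', rfl⟩ := hq'
    rw [hQ]
    have hc := Subgroup.mem_centralizer_singleton_iff.mp q'.2
    have hgq : g * (q' : G) * g⁻¹ ∈ Subgroup.centralizer ({g * x * g⁻¹} : Set G) := by
      refine Subgroup.mem_centralizer_singleton_iff.mpr ?_
      calc g * (q' : G) * g⁻¹ * (g * x * g⁻¹) = g * ((q' : G) * x) * g⁻¹ := by group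
        _ = g * (x * q') * g⁻¹ := by rw [hc]
        _ = _ := by group
    have hφq : φ ⟨g * (q' : G) * g⁻¹, hgq⟩ = q' := Subtype.ext (by
      show g⁻¹ * (g * (q' : G) * g⁻¹) * g = q'
      group)
    refine ⟨⟨g * (q' : G) * g⁻¹, hgq⟩, hle ?_, ?_⟩
    · rw [Subgroup.mem_comap, hφq]
      exact hq'
    · simp
  refine le_antisymm ?_ (key x g)
  intro y hy
  refine ⟨g⁻¹ * y * g, ?_, by simp [mul_assoc]⟩
  have h2 := key (g * x * g⁻¹) g⁻¹ ⟨y, hy, rfl⟩
  have e : g⁻¹ * (g * x * g⁻¹) * g⁻¹⁻¹ = x := by group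
  rw [e] at h2
  simpa using h2

theorem conj_mem_core {x g q : G} (hq : q ∈ Q x) : g * q * g⁻¹ ∈ Q (g * x * g⁻¹) := by
  rw [core_map_conj hQ]
  exact ⟨q, hq, rfl⟩

theorem mem_core_self {z : G} (hz : orderOf z = 2) : z ∈ Q z := by
  rw [hQ z]
  have hzc : z ∈ Subgroup.centralizer ({z} : Set G) :=
    Subgroup.mem_centralizer_singleton_iff.mpr rfl
  refine ⟨⟨z, hzc⟩, ?_, rfl⟩
  have hcen : (⟨z, hzc⟩ : Subgroup.centralizer ({z} : Set G)) ∈
      Subgroup.center (Subgroup.centralizer ({z} : Set G)) :=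
    Subgroup.mem_center_iff.mpr fun a => Subtype.ext (Subgroup.mem_centralizer_singleton_iff.mp a.2)
  refine (le_sSup ⟨?_, ?_⟩ : Subgroup.zpowers (⟨z, hzc⟩ : Subgroup.centralizer ({z} : Set G)) ≤
    Cfsg.pCore 2 _) (Subgroup.mem_zpowers _)
  · refine ⟨fun n hn a => ?_⟩
    have hle := (Subgroup.zpowers_le.mpr hcen) hn
    rw [Subgroup.mem_center_iff.mp hle a, mul_inv_cancel_right]
    exact hn
  · refine IsPGroup.of_card (n := 1) ?_
    rw [Nat.card_zpowers, ← orderOf_injective (Subgroup.centralizer ({z} : Set G)).subtype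
      Subtype.val_injective, pow_one]
    exact hz

theorem largeExtra_of_conj {z : G} (hz : orderOf z = 2) (hE : Cfsg.IsExtraspecial 2 ↥(Q z))
    (hC : Subgroup.centralizer ((Q z : Subgroup G) : Set G) ≤ Q z) (g : G) :
    LargeExtra (Q (g * z * g⁻¹)) (g * z * g⁻¹) := by
  have hz1 : z ≠ 1 := by
    intro e; rw [e, orderOf_one] at hz; omega
  have hzz : z * z = 1 := by rw [← pow_two, ← hz]; exact pow_orderOf_eq_one z
  have hzQ := mem_core_self hQ hz
  obtain ⟨⟨-, -, hcomm⟩, hcard⟩ := hE
  have hzcen : (⟨z, hzQ⟩ : Q z) ∈ Subgroup.center (Q z) :=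
    Subgroup.mem_center_iff.mpr fun q => Subtype.ext (core_comm hQ q.2)
  have hcentre : ∀ q : Q z, q ∈ Subgroup.center (Q z) → (q : G) = 1 ∨ (q : G) = z := by
    intro q hq
    have := eq_or_eq_of_card_two hcard hzcen (fun e => hz1 (congrArg Subtype.val e)) hq
    rcases this with e | e
    · exact Or.inl (congrArg Subtype.val e)
    · exact Or.inr (congrArg Subtype.val e)
  have base : LargeExtra (Q z) z :=
    { ne_one := hz1
      sq := hzz
      mem := hzQ
      comm := fun q hq => core_comm hQ hq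
      center := fun q hq hqr => hcentre ⟨q, hq⟩
        (Subgroup.mem_center_iff.mpr fun r => Subtype.ext (hqr r r.2).symm)
      commutator := fun a ha b hb => hcentre ⁅(⟨a, ha⟩ : Q z), ⟨b, hb⟩⁆ (by
        rw [← hcomm]
        exact Subgroup.commutator_mem_commutator (Subgroup.mem_top _) (Subgroup.mem_top _))
      centralizer_le := fun c hc => hC fun q hq => (hc q hq).symm }
  set c := MulAut.conj g with hcdef
  have hmem : ∀ q, q ∈ Q (g * z * g⁻¹) ↔ c.symm q ∈ Q z := by
    intro q
    rw [core_map_conj hQ]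
    exact Subgroup.mem_map_equiv
  have hcz : c.symm (g * z * g⁻¹) = z := by simp [hcdef, mul_assoc]
  exact
    { ne_one := fun e => hz1 (by rw [← hcz, e, map_one])
      sq := by apply c.symm.injective; rw [map_mul, hcz, map_one, hzz]
      mem := conj_mem_core hQ hzQ
      comm := fun q hq => core_comm hQ hq
      center := fun q hq hqr => by
        rcases base.center _ ((hmem q).mp hq) (fun r hr => by
          have := hqr (c r) ((hmem _).mpr (by simpa using hr))
          apply c.injective; simpa using this) with e | e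
        · left; apply c.symm.injective; simpa using e
        · right; apply c.symm.injective; rw [e, hcz]
      commutator := fun a ha b hb => by
        rcases base.commutator _ ((hmem a).mp ha) _ ((hmem b).mp hb) with e | e
        · left; apply c.symm.injective
          rw [map_commutatorElement, e, map_one]
        · right; apply c.symm.injective
          rw [map_commutatorElement, e, hcz]
      centralizer_le := fun x hx => (hmem x).mpr (base.centralizer_le _ fun q hq => by
        have := hx (c q) ((hmem _).mpr (by simpa using hq))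
        apply c.injective; simpa using this) }

end CoreMap

end Cfsg.Agent.Sporadic96
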