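import Cfsg.Agent.Lib.FischerSpace.Basic
import Cfsg.Agent.Sporadic96.WidthOneModule

/-!
# The module of a 3-transposition group modulo an elementary abelian 2-radical

The commutator subgroups `[V, d]` of distinct transpositions meet trivially, and `[V, a]` meets
`[V, d] [V, f]` trivially unless `a` lies on the line through `d` and `f`.
-/

set_option autoImplicit false

namespace Cfsg.Agent.Sporadic96.TwoModule

open Cfsg.Agent

variable {X V : Type*} [Group X] [CommGroup V]

/-- `u ↦ [u, d]`. -/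
def A (ρ : X →* MulAut V) (d : X) : V →* V := (ρ d).toMonoidHom * MonoidHom.id V

/-- `[V, d]`. -/
def R (ρ : X →* MulAut V) (d : X) : Subgroup V := (A ρ d).range

/-- The hypotheses satisfied by the image of a class of 3-transpositions. -/
structure Mod (ρ : X →* MulAut V) (D : Set X) : Prop where
  set : Cfsg.IsThreeTranspositionSet D
  inv : FischerSpace.Invariant D
  gen : Subgroup.closure D = ⊤
  inj : Function.Injective ρ
  sq : ∀ v : V, v * v = 1
  quad : ∀ d ∈ D, ∀ f ∈ D, Commute d f → ∀ u, ρ f (A ρ d u) = A ρ d u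
  braid : ∀ d ∈ D, ∀ f ∈ D, ¬ Commute d f → ∀ v, ρ (d * f) v = v → ρ d v = v
  sep : ∀ d ∈ D, ∀ f ∈ D, d ≠ f → ∃ h ∈ D, ¬ (Commute d h ↔ Commute f h)

variable {ρ : X →* MulAut V} {D : Set X}

theorem A_apply (d : X) (u : V) : A ρ d u = ρ d u * u := rfl

theorem A_mem (d : X) (u : V) : A ρ d u ∈ R ρ d := ⟨u, rfl⟩

theorem act_act (g h : X) (v : V) : ρ g (ρ h v) = ρ (g * h) v := by
  rw [map_mul, MulAut.mul_apply]

theorem act_one (v : V) : ρ 1 v = v := by rw [map_one, MulAut.one_apply]

namespace Mod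

theorem inv_self (M : Mod ρ D) (v : V) : v⁻¹ = v := inv_eq_of_mul_eq_one_left (M.sq v)

theorem cancel (M : Mod ρ D) (a b : V) : a * (a * b) = b := by rw [← mul_assoc, M.sq, one_mul]

theorem fix_self (M : Mod ρ D) {d : X} (hd : d ∈ D) {v : V} (hv : v ∈ R ρ d) : ρ d v = v := by
  obtain ⟨u, rfl⟩ := hv
  rw [A_apply, map_mul, act_act, FischerSpace.mul_self M.set hd, act_one, mul_comm]

theorem quad' (M : Mod ρ D) {d f : X} (hd : d ∈ D) (hf : f ∈ D) (h : Commute d f) {v : V}
    (hv : v ∈ R ρ d) : ρ f v = v := by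
  obtain ⟨u, rfl⟩ := hv
  exact M.quad d hd f hf h u

theorem conjR (g : X) {d : X} {v : V} (hv : v ∈ R ρ d) : ρ g v ∈ R ρ (g * d * g⁻¹) := by
  obtain ⟨u, rfl⟩ := hv
  refine ⟨ρ g u, ?_⟩
  rw [A_apply, A_apply, map_mul (ρ g), act_act, act_act, inv_mul_cancel_right]

/-- The trace of the element `d f` of order three. -/
def tr (ρ : X →* MulAut V) (d f : X) (v : V) : V := v * ρ (d * f) v * ρ (f * d) v

theorem df3 (M : Mod ρ D) {d f : X} (hd : d ∈ D) (hf : f ∈ D) (h : ¬ Commute d f) :
    d * f * (d * f) = f * d ∧ d * f * (f * d) = 1 ∧ f * d * (d * f) = 1 ∧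
      f * d * (f * d) = d * f := by
  have b := FischerSpace.braid M.set hd hf h
  have d2 := FischerSpace.mul_self M.set hd
  have f2 := FischerSpace.mul_self M.set hf
  refine ⟨?_, ?_, ?_, ?_⟩
  · calc d * f * (d * f) = d * f * d * f := by simp only [mul_assoc]
      _ = f * d * (f * f) := by rw [b]; simp only [mul_assoc]
      _ = f * d := by rw [f2, mul_one]
  · rw [mul_assoc, ← mul_assoc f, f2, one_mul, d2]
  · rw [mul_assoc, ← mul_assoc d, d2, one_mul, f2]
  · calc f * d * (f * d) = f * d * f * d := by simp only [mul_assoc]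
      _ = d * f * (d * d) := by rw [← b]; simp only [mul_assoc]
      _ = d * f := by rw [d2, mul_one]

theorem x_fix_tr (M : Mod ρ D) {d f : X} (hd : d ∈ D) (hf : f ∈ D) (h : ¬ Commute d f) (v : V) :
    ρ (d * f) (tr ρ d f v) = tr ρ d f v := by
  obtain ⟨h1, h2, -, -⟩ := M.df3 hd hf h
  rw [tr, map_mul, map_mul, act_act, act_act, h1, h2, act_one]
  ac_rfl

theorem fix_both (M : Mod ρ D) {d f : X} (hd : d ∈ D) (hf : f ∈ D) (h : ¬ Commute d f) {v : V}
    (hv : ρ (d * f) v = v) : ρ d v = v ∧ ρ f v = v := by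
  refine ⟨M.braid d hd f hf h v hv, ?_⟩
  have : ρ d (ρ d (ρ f v)) = ρ d v := by rw [act_act d f, hv]
  rw [M.braid d hd f hf h v hv, act_act, FischerSpace.mul_self M.set hd, act_one] at this
  exact this

theorem tr_R (M : Mod ρ D) {d f : X} (hd : d ∈ D) (hf : f ∈ D) (h : ¬ Commute d f) {v : V}
    (hv : v ∈ R ρ d) : tr ρ d f v = 1 := by
  obtain ⟨u, rfl⟩ := hv
  have d2 := FischerSpace.mul_self M.set hd
  have e : tr ρ d f (A ρ d u) = ρ d (tr ρ d f u) * tr ρ d f u := by
    have hdd : ∀ w, ρ d (ρ d w) = w := fun w => by rw [act_act, d2, act_one]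
    simp only [tr, A_apply, map_mul, MulAut.mul_apply, hdd, mul_comm, mul_left_comm, mul_assoc]
  rw [e, (M.fix_both hd hf h (M.x_fix_tr hd hf h u)).1, M.sq]

theorem tr_mul (d f : X) (a b : V) : tr ρ d f (a * b) = tr ρ d f a * tr ρ d f b := by
  simp only [tr, map_mul]; ac_rfl

theorem tr_symm (d f : X) (v : V) : tr ρ d f v = tr ρ f d v := by
  simp only [tr]; ac_rfl

/-- `[V, d]` has no nonzero element fixed by a transposition not commuting with `d`. -/
theorem inj_R (M : Mod ρ D) {d f : X} (hd : d ∈ D) (hf : f ∈ D) (h : ¬ Commute d f) {v : V}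
    (hv : v ∈ R ρ d) (hfv : ρ f v = v) : v = 1 := by
  have h1 := M.tr_R hd hf h hv
  rwa [tr, ← act_act d f, ← act_act f d, hfv, M.fix_self hd hv, hfv, M.sq, one_mul] at h1

theorem disjoint (M : Mod ρ D) {d f : X} (hd : d ∈ D) (hf : f ∈ D) (hne : d ≠ f) {v : V}
    (h1 : v ∈ R ρ d) (h2 : v ∈ R ρ f) : v = 1 := by
  by_cases hc : Commute d f
  · obtain ⟨h, hh, hiff⟩ := M.sep d hd f hf hne
    by_cases hdh : Commute d h
    · exact M.inj_R hf hh (fun hfh => hiff ⟨fun _ => hfh, fun _ => hdh⟩) h2 (M.quad' hd hh hdh h1)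
    · refine M.inj_R hd hh hdh h1 (M.quad' hf hh ?_ h2)
      by_contra hfh
      exact hiff ⟨fun x => absurd x hdh, fun x => absurd x hfh⟩
  · exact M.inj_R hd hf hc h1 (M.fix_self hf h2)

theorem R_ne_bot (M : Mod ρ D) {d : X} (hd : d ∈ D) : ∃ a ∈ R ρ d, a ≠ 1 := by
  by_contra h
  push Not at h
  apply FischerSpace.ne_one M.set hd
  apply M.inj
  rw [map_one]
  refine MulEquiv.ext fun u => ?_
  have := h _ (A_mem d u)
  rw [A_apply, mul_eq_one_iff_eq_inv, M.inv_self] at this
  rw [this, MulAut.one_apply]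

/-- The image of `1 + x` lies in `[V, d] [V, f]`. -/
theorem one_add_x_mem (M : Mod ρ D) (d f : X) (w : V) : ρ (d * f) w * w ∈ R ρ d ⊔ R ρ f := by
  have e : ρ (d * f) w * w = A ρ d (ρ f w) * A ρ f w := by
    rw [A_apply, A_apply, act_act, mul_assoc, M.cancel]
  rw [e]
  exact mul_mem (Subgroup.mem_sup_left (A_mem _ _)) (Subgroup.mem_sup_right (A_mem _ _))

theorem mem_W_of_tr (M : Mod ρ D) {d f : X} (hd : d ∈ D) (hf : f ∈ D) (h : ¬ Commute d f) {w : V}
    (hw : tr ρ d f w = 1) : w ∈ R ρ d ⊔ R ρ f := by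
  obtain ⟨h1, -, -, -⟩ := M.df3 hd hf h
  have e : w = ρ (d * f) (ρ (d * f) w) * ρ (d * f) w := by
    rw [act_act, h1]
    rw [tr, mul_assoc, mul_eq_one_iff_eq_inv, M.inv_self] at hw
    exact hw.trans (mul_comm _ _)
  rw [e]
  exact M.one_add_x_mem d f _

theorem tr_of_mem_W (M : Mod ρ D) {d f : X} (hd : d ∈ D) (hf : f ∈ D) (h : ¬ Commute d f) {w : V}
    (hw : w ∈ R ρ d ⊔ R ρ f) : tr ρ d f w = 1 := by
  obtain ⟨a, ha, b, hb, rfl⟩ := Subgroup.mem_sup.1 hw
  rw [tr_mul, M.tr_R hd hf h ha, tr_symm, M.tr_R hf hd (fun hc => h hc.symm) hb, one_mul]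

/-- `[V, d] [V, f]` contains `[V, h]` for the third point `h` of the line. -/
theorem third_mem_W (M : Mod ρ D) {d f : X} (hd : d ∈ D) {v : V}
    (hv : v ∈ R ρ (d * f * d)) : v ∈ R ρ d ⊔ R ρ f := by
  have hd2 := FischerSpace.mul_self M.set hd
  have h1 := conjR d hv
  rw [FischerSpace.inv_eq M.set hd, show d * (d * f * d) * d = (d * d) * f * (d * d) by
    simp only [mul_assoc], hd2, one_mul, mul_one] at h1
  have e : v = A ρ d (ρ d v) * ρ d v := by
    rw [A_apply, act_act, hd2, act_one, mul_assoc, M.sq, mul_one]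
  rw [e]
  exact mul_mem (Subgroup.mem_sup_left (A_mem _ _)) (Subgroup.mem_sup_right h1)

/-- In an affine plane the central element `z` has the relations of `3^{1+2}:2`, and its fixed vectors
are fixed by the plane. -/
theorem plane (M : Mod ρ D) {d f a : X} (hd : d ∈ D) (hf : f ∈ D) (hdf : ¬ Commute d f)
    (ha : a ∈ D) (c1 : ¬ Commute a d) (c2 : ¬ Commute a f) (c3 : ¬ Commute a (d * f * d)) :
    Order54.Rel d (d * f) (d * a) ∧ Commute ((d * a)⁻¹ * (d * f)⁻¹ * (d * a) * (d * f)) a ∧
      ∀ v, ρ ((d * a)⁻¹ * (d * f)⁻¹ * (d * a) * (d * f)) v = v → ρ d v = v ∧ ρ a v = v := by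
  have d2 := FischerSpace.mul_self M.set hd
  have f2 := FischerSpace.mul_self M.set hf
  have a2 := FischerSpace.mul_self M.set ha
  have br := FischerSpace.braid M.set hd hf hdf
  have hh : d * f * d ∈ D := FischerSpace.conj_mem M.set M.inv hd hf
  -- the affine plane
  set x := d * f with hxdef
  set p := d * a with hpdef
  have dxd : d * x * d = x⁻¹ := by
    rw [hxdef, mul_inv_rev, FischerSpace.inv_eq M.set hd, FischerSpace.inv_eq M.set hf,
      ← mul_assoc, d2, one_mul]
  have dpd : d * p * d = p⁻¹ := by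
    rw [hpdef, mul_inv_rev, FischerSpace.inv_eq M.set hd, FischerSpace.inv_eq M.set ha,
      ← mul_assoc, d2, one_mul]
  have x3 : x ^ 3 = 1 := FischerSpace.cube_eq_one M.set hd hf hdf
  have p3 : p ^ 3 = 1 := FischerSpace.cube_eq_one M.set hd ha fun e => c1 e.symm
  have xp3 : (x * p) ^ 3 = 1 := by
    rw [hxdef, hpdef, show d * f * (d * a) = d * f * d * a by simp only [mul_assoc]]
    exact FischerSpace.cube_eq_one M.set hh ha fun e => c3 e.symm
  have xip3 : (x⁻¹ * p) ^ 3 = 1 := by
    rw [hxdef, hpdef, mul_inv_rev, FischerSpace.inv_eq M.set hd, FischerSpace.inv_eq M.set hf,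
      show f * d * (d * a) = f * (d * d) * a by simp only [mul_assoc], d2, mul_one]
    exact FischerSpace.cube_eq_one M.set hf ha fun e => c2 e.symm
  -- in a group of exponent three an element commutes with its conjugates
  have key : ∀ x p : X, x ^ 3 = 1 → p ^ 3 = 1 → (x * p) ^ 3 = 1 → (x⁻¹ * p) ^ 3 = 1 →
      Commute x (p * x * p⁻¹) := by
    intro x p hx hp h1 h2
    have xi : x⁻¹ = x * x := inv_eq_of_mul_eq_one_left (by rw [← hx]; simp only [pow_succ, pow_zero, one_mul])
    have pi : p⁻¹ = p * p := inv_eq_of_mul_eq_one_left (by rw [← hp]; simp only [pow_succ, pow_zero, one_mul])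
    have e1 : x * p * x = p⁻¹ * x⁻¹ * p⁻¹ := by
      calc x * p * x = (x * p) ^ 3 * (p⁻¹ * x⁻¹ * p⁻¹) := by
            simp only [pow_succ, pow_zero, one_mul]; group
        _ = _ := by rw [h1, one_mul]
    have e2 : p * x⁻¹ * p = x * p⁻¹ * x := by
      calc p * x⁻¹ * p = x * (x⁻¹ * p) ^ 3 * (p⁻¹ * x) := by
            simp only [pow_succ, pow_zero, one_mul]; group
        _ = _ := by rw [h2, mul_one, ← mul_assoc]
    show x * (p * x * p⁻¹) = p * x * p⁻¹ * x
    calc x * (p * x * p⁻¹) = (x * p * x) * p⁻¹ := by simp only [mul_assoc]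
      _ = p⁻¹ * x⁻¹ * (p⁻¹ * p⁻¹) := by rw [e1]; simp only [mul_assoc]
      _ = p⁻¹ * x⁻¹ * p := by
        congr 1
        rw [← mul_inv_rev, ← pi, inv_inv]
      _ = p * (p * x⁻¹ * p) := by rw [pi]; simp only [mul_assoc]
      _ = p * x * p⁻¹ * x := by rw [e2]; simp only [mul_assoc]
  set z := p⁻¹ * x⁻¹ * p * x with hzdef
  have hzx : Commute z x := by
    have k := key x p⁻¹ x3 (by rw [inv_pow, p3, inv_one])
      (by
        have := congrArg (fun t => x * t * x⁻¹) (show (x⁻¹ * p)⁻¹ ^ 3 = 1 by rw [inv_pow, xip3, inv_one])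
        simp only [mul_one, mul_inv_cancel] at this
        rw [← this, ← conj_pow]
        congr 1; group)
      (by
        have := congrArg (fun t => x⁻¹ * t * x) (show (x * p)⁻¹ ^ 3 = 1 by rw [inv_pow, xp3, inv_one])
        simp only [mul_one, inv_mul_cancel] at this
        rw [← this]
        have e := conj_pow (a := x⁻¹) (b := (x * p)⁻¹) (i := 3)
        rw [inv_inv] at e
        rw [← e]
        congr 1; group)
    rw [inv_inv] at k
    have e : z = (p⁻¹ * x * p)⁻¹ * x := by rw [hzdef]; group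
    rw [e]
    exact (k.inv_right.symm).mul_left (Commute.refl x)
  have hzp : Commute z p := by
    have k := key p x⁻¹ p3 (by rw [inv_pow, x3, inv_one])
      (by
        have := congrArg (fun t => p * t * p⁻¹) xip3
        simp only [mul_one, mul_inv_cancel] at this
        rw [← this, ← conj_pow]
        congr 1; group)
      (by rw [← mul_inv_rev, inv_pow, xp3, inv_one])
    rw [inv_inv] at k
    have e : z = p⁻¹ * (x⁻¹ * p * x) := by rw [hzdef]; group
    rw [e]
    exact (Commute.refl p).inv_left.mul_left k.symm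
  have R54 : Order54.Rel d x p := ⟨by rw [pow_two]; exact d2, x3, p3, dxd, dpd, hzx, hzp⟩
  have hzd : Commute z d := (show Commute d R54.z from R54.d_z).symm
  have hza : Commute z a := by
    have : a = d * p := by rw [hpdef, ← mul_assoc, d2, one_mul]
    rw [this]; exact hzd.mul_right hzp
  -- fixed vectors of `z` are fixed by `d` and by `a`
  have hfixd : ∀ v, ρ z v = v → ρ d v = v := by
    intro v hv
    refine WidthOneModule.fix_of_four M.sq ρ x3 p3 hzx hzp hv (fun v => ρ d v = v)
      (fun u u' hu hu' => by rw [map_mul, hu, hu']) (M.braid d hd f hf hdf)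
      (M.braid d hd a ha fun e => c1 e.symm) (fun u hu => ?_) (fun u hu => ?_)
    · have hr : f * (d * a * d) * f ∈ D :=
        FischerSpace.conj_mem M.set M.inv hf (FischerSpace.conj_mem M.set M.inv hd ha)
      refine M.braid d hd _ hr (fun e => c2 ?_) u ?_
      · have e' := (FischerSpace.commute_conj_iff' M.set hf _ _).2 e
        rw [FischerSpace.conj_conj_self M.set hf, ← br] at e'
        exact ((FischerSpace.commute_conj_iff' M.set hd _ _).1 e').symm
      · rw [← hu]; congr 2
        simp only [hxdef, hpdef, mul_assoc]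
    · refine M.braid d hd (f * a * f) (FischerSpace.conj_mem M.set M.inv hf ha) (fun e => c3 ?_) u ?_
      · have e' := (FischerSpace.commute_conj_iff' M.set hf _ _).2 e
        rw [FischerSpace.conj_conj_self M.set hf, ← br] at e'
        exact e'.symm
      · rw [← hu]; congr 2
        have : d * a * (d * a) = a * d := (M.df3 hd ha fun e => c1 e.symm).1
        rw [hxdef, hpdef, this]
        calc d * (f * a * f) = d * f * a * (d * d) * f := by rw [d2]; simp only [mul_assoc, one_mul]
          _ = d * f * (a * d) * (d * f) := by simp only [mul_assoc]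
  have hfixa : ∀ v, ρ z v = v → ρ a v = v := by
    intro v hv
    have ea : a = p * d * p⁻¹ := by
      have := FischerSpace.braid M.set hd ha fun e => c1 e.symm
      rw [hpdef, this, mul_inv_rev, FischerSpace.inv_eq M.set hd, FischerSpace.inv_eq M.set ha]
      calc a = a * d * (a * a) * d := by rw [a2, mul_one, mul_assoc, d2, mul_one]
        _ = a * d * a * (a * d) := by simp only [mul_assoc]
    have hv' : ρ z (ρ p⁻¹ v) = ρ p⁻¹ v := by
      rw [act_act, hzp.inv_right.eq, ← act_act, hv]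
    rw [ea, ← act_act, ← act_act, hfixd _ hv', act_act, mul_inv_cancel, act_one]
  exact ⟨R54, hza, fun v hv => ⟨hfixd v hv, hfixa v hv⟩⟩

/-- The triangle lemma. -/
theorem triangle (M : Mod ρ D) {d f a : X} (hd : d ∈ D) (hf : f ∈ D) (hdf : ¬ Commute d f)
    (ha : a ∈ D) (had : a ≠ d) (haf : a ≠ f) (hah : a ≠ d * f * d) {y : V} (hya : y ∈ R ρ a)
    (hy : y ∈ R ρ d ⊔ R ρ f) : y = 1 := by
  have d2 := FischerSpace.mul_self M.set hd
  have f2 := FischerSpace.mul_self M.set hf
  have a2 := FischerSpace.mul_self M.set ha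
  have br := FischerSpace.braid M.set hd hf hdf
  have hh : d * f * d ∈ D := FischerSpace.conj_mem M.set M.inv hd hf
  -- a point of the line commuting with `a`
  have hq : ∀ q q' : X, q ∈ D → q' ∈ D → ¬ Commute q q' → a ≠ q → Commute a q →
      y ∈ R ρ q ⊔ R ρ q' → y = 1 := by
    intro q q' hqD hq'D hqq hne hcom hyW
    obtain ⟨r, hr, s, hs, rfl⟩ := Subgroup.mem_sup.1 hyW
    have h1 := M.quad' ha hqD hcom hya
    rw [map_mul, M.fix_self hqD hr, mul_left_cancel_iff] at h1
    rw [M.inj_R hq'D hqD (fun e => hqq e.symm) hs h1, mul_one] at hya ⊢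
    exact M.disjoint ha hqD hne hya hr
  by_cases c1 : Commute a d
  · exact hq d f hd hf hdf had c1 hy
  by_cases c2 : Commute a f
  · exact hq f d hf hd (fun e => hdf e.symm) haf c2 (by rwa [sup_comm])
  by_cases c3 : Commute a (d * f * d)
  · refine hq (d * f * d) d hh hd (fun e => (FischerSpace.not_commute_third M.set hd hf hdf).1 e.symm)
      hah c3 ?_
    refine (sup_le le_sup_right ?_ : R ρ d ⊔ R ρ f ≤ _) hy
    intro v hv
    have h1 := conjR d hv
    rw [FischerSpace.inv_eq M.set hd] at h1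
    have e : v = ρ d v * A ρ d v := by rw [A_apply, M.cancel]
    rw [e]
    exact mul_mem (Subgroup.mem_sup_left h1) (Subgroup.mem_sup_right (A_mem _ _))
  -- the affine plane
  obtain ⟨R54, hza, hfix⟩ := M.plane hd hf hdf ha c1 c2 c3
  set x := d * f with hxdef
  set p := d * a with hpdef
  set z := p⁻¹ * x⁻¹ * p * x with hzdef
  have dxd : d * x * d = x⁻¹ := R54.hdx
  have x3 : x ^ 3 = 1 := R54.hx
  have hzx : Commute z x := R54.hzx
  have hzp : Commute z p := R54.hzy
  have hfixd : ∀ v, ρ z v = v → ρ d v = v := fun v hv => (hfix v hv).1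
  obtain ⟨h1, -, -, -⟩ := M.df3 hd hf hdf
  have z3 : z ^ 3 = 1 := R54.z_cube
  have zi : ρ z (ρ z (ρ z y)) = y := by
    rw [act_act, act_act, show z * z * z = z ^ 3 by simp [pow_succ], z3, act_one]
  have haz : ρ a y = y := M.fix_self ha hya
  -- `(1 + z) y` is fixed by `z x`
  set u := ρ z y * y with hu
  have hxx : x * x = f * d := h1
  have axa : a * x * a = z * (f * d) := by
    have ea : a = d * p := by rw [hpdef, ← mul_assoc, d2, one_mul]
    have ea' : a = p⁻¹ * d := by
      rw [hpdef, mul_inv_rev, FischerSpace.inv_eq M.set hd, FischerSpace.inv_eq M.set ha, mul_assoc,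
        d2, mul_one]
    calc a * x * a = p⁻¹ * d * x * (d * p) := by rw [← ea, ← ea']
      _ = p⁻¹ * (d * x * d) * p := by simp only [mul_assoc]
      _ = z * x⁻¹ := by rw [dxd, hzdef]; group
      _ = z * (f * d) := by
        rw [hxdef, mul_inv_rev, FischerSpace.inv_eq M.set hd, FischerSpace.inv_eq M.set hf]
  have axxa : a * (x * x) * a = z * (z * x) := by
    calc a * (x * x) * a = a * x * (a * a) * x * a := by rw [a2]; simp only [mul_assoc, one_mul]
      _ = (a * x * a) * (a * x * a) := by simp only [mul_assoc]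
      _ = z * (x * x) * (z * (x * x)) := by rw [axa, ← hxx]
      _ = z * z * ((x * x) * (x * x)) := by
        rw [show z * (x * x) * (z * (x * x)) = z * ((x * x) * z) * (x * x) by simp only [mul_assoc],
          ← (hzx.mul_right hzx).eq]
        simp only [mul_assoc]
      _ = z * (z * x) := by
        rw [show x * x * (x * x) = x ^ 3 * x by simp [pow_succ, mul_assoc], x3, one_mul, mul_assoc]
  have t1 : y * ρ x y * ρ (x * x) y = 1 := by
    rw [hxx]; exact M.tr_of_mem_W hd hf hdf hy
  have t2 : y * ρ (z * (x * x)) y * ρ (z * (z * x)) y = 1 := by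
    have h := congrArg (ρ a) t1
    rw [map_one, map_mul, map_mul, haz] at h
    have e1 : ρ a (ρ x y) = ρ (z * (x * x)) y := by
      conv_lhs => rw [← haz]
      rw [act_act, act_act, axa, hxx]
    have e2 : ρ a (ρ (x * x) y) = ρ (z * (z * x)) y := by
      conv_lhs => rw [← haz]
      rw [act_act, act_act, axxa]
    rwa [e1, e2] at h
  have cxz : ∀ w, ρ x (ρ z w) = ρ z (ρ x w) := fun w => by rw [act_act, act_act, hzx.eq]
  have x3' : ∀ w, ρ x (ρ x (ρ x w)) = w := fun w => by
    rw [act_act, act_act, show x * x * x = x ^ 3 by simp [pow_succ], x3, act_one]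
  have hxu : ρ x u = ρ z (ρ z y) * y := by
    have h := congrArg₂ (fun a b => ρ x (ρ x (a * b))) t1 t2
    simp only [map_mul, MulAut.mul_apply, map_one, one_mul, cxz, x3'] at h
    rw [hu, map_mul, cxz]
    have := M.cancel (ρ x (ρ x y)) 1
    rw [mul_one] at this
    calc ρ z (ρ x y) * ρ x y
        = ρ z (ρ x y) * ρ x y * (ρ x (ρ x y) * ρ x (ρ x y)) * (y * y) * (ρ z (ρ z y) * ρ z (ρ z y)) := by
          rw [M.sq, M.sq, M.sq, mul_one, mul_one, mul_one]
      _ = (ρ x (ρ x y) * y * ρ x y * (ρ x (ρ x y) * ρ z (ρ x y) * ρ z (ρ z y))) * (ρ z (ρ z y) * y) := by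
          ac_rfl
      _ = ρ z (ρ z y) * y := by rw [h, one_mul]
  have hzu : ρ z u = ρ z (ρ z y) * ρ z y := map_mul _ _ _
  have hzzu : ρ z (ρ z u) = ρ z (ρ z y) * y * ρ z y * ρ z y := by
    rw [hzu, map_mul, zi, mul_assoc, mul_assoc, M.sq, mul_one, mul_comm]
  have hzxu : ρ (z * x) u = u := by
    rw [← act_act, hxu, map_mul, zi, hu, mul_comm]
  -- `a` times `z x` is a member of the class
  have egz : a * (z * x) = x * a * x⁻¹ := by
    have ea : a = d * p := by rw [hpdef, ← mul_assoc, d2, one_mul]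
    have hdx : x * d = d * x⁻¹ := by
      rw [← dxd, ← mul_assoc, ← mul_assoc, d2, one_mul]
    calc a * (z * x) = d * p * (p⁻¹ * x⁻¹ * p * (x * x)) := by rw [← ea, hzdef]; simp only [mul_assoc]
      _ = (d * x⁻¹) * p * (x * x) := by group
      _ = x * (d * p) * (x * x) := by rw [← hdx]; simp only [mul_assoc]
      _ = x * a * x⁻¹ := by
        rw [← ea]
        congr 1
        exact (inv_eq_of_mul_eq_one_left (by rw [← x3]; simp [pow_succ])).symm
  set g := x * a * x⁻¹ with hgdef
  have hgD : g ∈ D := M.inv x a ha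
  have hag : a * g = z * x := by rw [← egz, ← mul_assoc, a2, one_mul]
  have hng : ¬ Commute a g := by
    intro hc
    have h2 := (FischerSpace.commute_iff_sq M.set ha hgD).1 hc
    have h3 : (z * x) ^ 3 = 1 := by rw [hzx.mul_pow, z3, x3, one_mul]
    rw [hag] at h2
    rw [pow_succ, h2, one_mul] at h3
    have hxp : Commute x p := by
      have : x = z⁻¹ := eq_inv_of_mul_eq_one_right h3
      rw [this]; exact hzp.inv_left
    have hz1 : z = 1 := by
      rw [hzdef, mul_assoc (p⁻¹ * x⁻¹), ← hxp.eq]; group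
    rw [hz1, one_mul] at h3
    exact hdf ((FischerSpace.commute_iff_sq M.set hd hf).2 (by
      rw [← hxdef, h3, one_pow]))
  have huR : u ∈ R ρ a := by
    refine mul_mem ?_ hya
    have := conjR z hya
    rwa [hza.eq, mul_inv_cancel_right] at this
  have hgu : ρ g u = u := by
    have : g = a * (z * x) := by rw [← hag, ← mul_assoc, a2, one_mul]
    rw [this, ← act_act, hzxu, M.fix_self ha huR]
  have hu1 := M.inj_R ha hgD hng huR hgu
  rw [hu, mul_eq_one_iff_eq_inv, M.inv_self] at hu1
  exact M.inj_R ha hd c1 hya (hfixd y hu1)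

end Mod

end Cfsg.Agent.Sporadic96.TwoModule
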